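/-
Lengths in a Tits system: minimal elements of cosets, longest elements, products of cells.
-/
import Mathlib
import Cfsg.Agent.Lib.Chev.BNPair

set_option autoImplicit false

namespace CfsgLib.BNSteinberg

open CfsgLib.Chev.BN

variable {G : Type*} [Group G] {P : Cfsg.BNPair G}

/-- The subgroup of `N` belonging to a set of generators. -/
abbrev NJ (P : Cfsg.BNPair G) (J : Set G) : Subgroup G := Subgroup.closure J ⊔ (P.B ⊓ P.N)

/-- Of least length in its right coset class by `J`. -/
def RMin (P : Cfsg.BNPair G) (J : Set G) (w : G) : Prop := ∀ v ∈ NJ P J, len P w ≤ len P (w * v)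

/-- Of least length in its left coset class by `J`. -/
def LMin (P : Cfsg.BNPair G) (J : Set G) (w : G) : Prop := ∀ v ∈ NJ P J, len P w ≤ len P (v * w)

/-- Every element of `J` shortens on the right. -/
def LongJ (P : Cfsg.BNPair G) (J : Set G) (w : G) : Prop := ∀ s ∈ J, len P (w * s) < len P w

theorem NJ_le {J : Set G} (hJ : J ⊆ P.S) : NJ P J ≤ P.N :=
  sup_le ((Subgroup.closure_le _).2 fun _ h => P.subset (hJ h)) inf_le_right

theorem mem_NJ {J : Set G} {s : G} (hs : s ∈ J) : s ∈ NJ P J :=
  Subgroup.mem_sup_left (Subgroup.subset_closure hs)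

theorem NJ_mono {J K : Set G} (h : K ⊆ J) : NJ P K ≤ NJ P J :=
  sup_le_sup_right (Subgroup.closure_mono h) _

theorem prod_mem_NJ {J : Set G} {l : List G} (h : ∀ x ∈ l, x ∈ J) : l.prod ∈ NJ P J :=
  list_prod_mem fun x hx => mem_NJ (h x hx)

theorem eqv_mem_NJ {J : Set G} {a b : G} (h : Eqv P a b) (ha : a ∈ NJ P J) : b ∈ NJ P J := by
  simpa using mul_mem ha (Subgroup.mem_sup_right (S := Subgroup.closure J) h)

theorem len_mul_le_add {a b : G} (ha : a ∈ P.N) (hb : b ∈ P.N) :
    len P (a * b) ≤ len P a + len P b := by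
  obtain ⟨l, hl, hlen, he⟩ := exists_len ha
  obtain ⟨m, hm, hmlen, he'⟩ := exists_len hb
  have hw : IsWord P (l ++ m) := fun x hx => (List.mem_append.1 hx).elim (hl x) (hm x)
  have := len_le_of_word hw (n := a * b)
    (by rw [List.prod_append]; exact (he.mul_right hm.prod_mem).trans (he'.mul_left a))
  rwa [List.length_append, hlen, hmlen] at this

theorem IsWord.eqv_reverse {l : List G} (hl : IsWord P l) : Eqv P l.reverse.prod l.prod⁻¹ := by
  induction l with
  | nil => simp [Eqv]
  | cons s l ih =>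
    have hs : s ∈ P.S := hl s (by simp)
    have hl' : IsWord P l := hl.sublist (List.sublist_cons_self s l)
    rw [List.reverse_cons, List.prod_append, List.prod_singleton, List.prod_cons, mul_inv_rev]
    exact ((ih hl').mul_right (s_mem_N hs)).trans ((eqv_inv_self hs).mul_left _)

theorem len_inv_le {n : G} (hn : n ∈ P.N) : len P n⁻¹ ≤ len P n := by
  obtain ⟨l, hl, hlen, he⟩ := exists_len hn
  have hw : IsWord P l.reverse := fun x hx => hl x (List.mem_reverse.1 hx)
  have e : Eqv P l.prod⁻¹ n⁻¹ := by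
    have := conj_mem_H hl.prod_mem (inv_mem he)
    simpa [Eqv, mul_assoc] using this
  have := len_le_of_word hw ((IsWord.eqv_reverse hl).trans e)
  rwa [List.length_reverse, hlen] at this

theorem len_inv {n : G} (hn : n ∈ P.N) : len P n⁻¹ = len P n :=
  le_antisymm (len_inv_le hn) (by simpa using len_inv_le (inv_mem hn))

theorem eqv_inv {a b : G} (ha : a ∈ P.N) (h : Eqv P a b) : Eqv P a⁻¹ b⁻¹ := by
  have := conj_mem_H ha (inv_mem h)
  simpa [Eqv, mul_assoc] using this

theorem len_mul_inv {s n : G} (hs : s ∈ P.S) (hn : n ∈ P.N) :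
    len P (n⁻¹ * s) = len P (s * n) := by
  rw [← len_inv (mul_mem (s_mem_N hs) hn), mul_inv_rev]
  exact len_congr ((eqv_inv_self hs).mul_left _)

theorem len_right_up_or_down {s n : G} (hs : s ∈ P.S) (hn : n ∈ P.N) :
    len P (n * s) = len P n + 1 ∨ len P (n * s) + 1 = len P n := by
  have h := len_up_or_down hs (inv_mem hn)
  rw [← len_mul_inv hs (inv_mem hn), inv_inv, len_inv hn] at h
  exact h

theorem eqv_twice_right {s n : G} (hs : s ∈ P.S) : Eqv P (n * s * s) n := by
  rw [mul_assoc]
  have := (eqv_one_iff.2 (sq_mem_H hs)).symm.mul_left n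
  rwa [mul_one] at this

/-- A minimal coset representative is additive. -/
theorem RMin.add {J : Set G} (hJ : J ⊆ P.S) {w : G} (hwN : w ∈ P.N) (h : RMin P J w) {v : G}
    (hv : v ∈ NJ P J) : len P (w * v) = len P w + len P v := by
  obtain ⟨lw, hlw, hlwlen, hew⟩ := exists_len hwN
  obtain ⟨lv, hlvJ, hlvred, hev⟩ := exists_red_subset hJ hv
  have hvN := NJ_le hJ hv
  have hW : IsWord P (lw ++ lv) :=
    fun x hx => (List.mem_append.1 hx).elim (hlw x) (hlvred.1 x)
  obtain ⟨m, hsub, hred, hem⟩ := exists_red_sublist hW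
  obtain ⟨a, b, rfl, ha, hb⟩ := List.sublist_append_iff.1 hsub
  have haw : IsWord P a := hlw.sublist ha
  have hbw : IsWord P b := hlvred.1.sublist hb
  have hbJ : b.prod ∈ NJ P J := prod_mem_NJ fun x hx => hlvJ x (hb.subset hx)
  have e : Eqv P (a.prod * b.prod) (w * v) := by
    rw [List.prod_append, List.prod_append] at hem
    exact hem.trans ((hew.mul_right hlvred.1.prod_mem).trans (hev.mul_left w))
  have e2 : Eqv P a.prod (w * (v * b.prod⁻¹)) := by
    have := e.mul_right (inv_mem hbw.prod_mem)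
    rwa [mul_inv_cancel_right, mul_assoc] at this
  have h1 : len P w ≤ a.length :=
    (h _ (mul_mem hv (inv_mem hbJ))).trans ((len_congr e2).symm.le.trans
      (len_le_of_word haw (Eqv.refl _)))
  have h2 : a = lw := ha.eq_of_length (le_antisymm ha.length_le (hlwlen.le.trans h1))
  subst h2
  have e3 : Eqv P b.prod v := by
    have := ((hew.symm.mul_right hbw.prod_mem).trans e).mul_left w⁻¹
    rwa [inv_mul_cancel_left, inv_mul_cancel_left] at this
  have h3 : len P v ≤ b.length := (len_congr e3).symm.le.trans (len_le_of_word hbw (Eqv.refl _))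
  have h4 : b.length ≤ len P v := by
    rw [← len_congr hev, hlvred.2]; exact hb.length_le
  have h5 := hred.2
  rw [List.prod_append, len_congr e, List.length_append] at h5
  omega

theorem RMin.eqv {J : Set G} (hJ : J ⊆ P.S) {w v : G} (hwN : w ∈ P.N) (h : RMin P J w)
    (hv : v ∈ NJ P J) (h' : RMin P J (w * v)) : v ∈ P.B ⊓ P.N := by
  have h1 := h' v⁻¹ (inv_mem hv)
  rw [mul_inv_cancel_right] at h1
  have h2 := h.add hJ hwN hv
  exact ⟨(len_eq_zero_iff (NJ_le hJ hv)).1 (by omega), NJ_le hJ hv⟩

theorem RMin.congr {J : Set G} (hJ : J ⊆ P.S) {w w' : G} (e : Eqv P w w') (h : RMin P J w) :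
    RMin P J w' := by
  intro v hv
  rw [← len_congr e, ← len_congr (e.mul_right (NJ_le hJ hv))]
  exact h v hv

theorem LMin.congr {J : Set G} {w w' : G} (e : Eqv P w w') (h : LMin P J w) :
    LMin P J w' := by
  intro v hv
  rw [← len_congr e, ← len_congr (e.mul_left v)]
  exact h v hv

theorem exists_rmin {J : Set G} (n : G) :
    ∃ v ∈ NJ P J, RMin P J (n * v) := by
  classical
  have hex : ∃ k, ∃ v ∈ NJ P J, len P (n * v) = k := ⟨_, 1, one_mem _, rfl⟩
  obtain ⟨v, hv, hk⟩ := Nat.find_spec hex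
  refine ⟨v, hv, fun u hu => ?_⟩
  rw [hk, mul_assoc]
  exact Nat.find_le ⟨v * u, mul_mem hv hu, rfl⟩

theorem RMin.lt {J : Set G} (hJ : J ⊆ P.S) {w : G} (hwN : w ∈ P.N) (h : RMin P J w) {s : G}
    (hs : s ∈ J) : len P w < len P (w * s) := by
  have := h.add hJ hwN (mem_NJ hs)
  rw [len_s (hJ hs)] at this
  omega

theorem rmin_iff {J : Set G} (hJ : J ⊆ P.S) {n : G} (hn : n ∈ P.N) :
    RMin P J n ↔ ∀ s ∈ J, len P n ≤ len P (n * s) := by
  refine ⟨fun h s hs => h s (mem_NJ hs), fun h => ?_⟩
  obtain ⟨u, hu, hmin⟩ := exists_rmin (P := P) (J := J) n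
  have huN := NJ_le hJ hu
  obtain ⟨l, hlJ, hlred, hle⟩ := exists_red_subset hJ (inv_mem hu)
  rcases List.eq_nil_or_concat l with rfl | ⟨l', t, rfl⟩
  · refine hmin.congr hJ ?_
    have := hle.mul_left (n * u)
    rwa [List.prod_nil, mul_one, mul_inv_cancel_right] at this
  exfalso
  rw [List.concat_eq_append] at hlJ hlred hle
  have ht : t ∈ J := hlJ t (by simp)
  have hl'J : ∀ x ∈ l', x ∈ J := fun x hx => hlJ x (by simp [hx])
  have hl'w : IsWord P l' := fun x hx => hJ (hl'J x hx)
  have hnuN : n * u ∈ P.N := mul_mem hn huN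
  have e : Eqv P (n * t) (n * u * l'.prod) := by
    have h1 := ((hle.mul_left (n * u)).mul_right (s_mem_N (hJ ht)))
    rw [mul_inv_cancel_right, List.prod_append, List.prod_singleton, ← mul_assoc] at h1
    exact h1.symm.trans (eqv_twice_right (hJ ht))
  have h1 := len_mul_le_add hnuN hl'w.prod_mem
  have h2 := len_le_of_word hl'w (Eqv.refl (P := P) l'.prod)
  have h3 := hmin.add hJ hnuN (inv_mem hu)
  rw [mul_inv_cancel_right, ← len_congr hle, hlred.2, List.length_append,
    List.length_singleton] at h3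
  have h4 := h t ht
  rw [len_congr e] at h4
  omega

theorem longJ_congr {J : Set G} (hJ : J ⊆ P.S) {w w' : G} (e : Eqv P w w') (h : LongJ P J w) :
    LongJ P J w' := by
  intro s hs
  rw [← len_congr e, ← len_congr (e.mul_right (s_mem_N (hJ hs)))]
  exact h s hs

/-- An element of `W_J` shortened by every generator on the left is longest. -/
theorem long_left {J : Set G} (hJ : J ⊆ P.S) {w : G} (hw : w ∈ NJ P J)
    (h : ∀ s ∈ J, len P (s * w) < len P w) :
    ∀ x ∈ NJ P J, len P (x * w) + len P x = len P w := by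
  suffices H : ∀ k, ∀ x ∈ NJ P J, len P x = k → len P (x * w) + k = len P w from
    fun x hx => H _ x hx rfl
  have hwN := NJ_le hJ hw
  intro k
  induction k with
  | zero =>
    intro x hx h0
    have hxH : x ∈ P.B ⊓ P.N := ⟨(len_eq_zero_iff (NJ_le hJ hx)).1 h0, NJ_le hJ hx⟩
    rw [len_congr (mem_H_mul_eqv hxH hwN), add_zero]
  | succ k ih =>
    intro x hx hk
    have hxN := NJ_le hJ hx
    obtain ⟨l, hlJ, hlred, hle⟩ := exists_red_subset hJ hx
    have hllen : l.length = k + 1 := by rw [← hlred.2, len_congr hle, hk]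
    rcases List.eq_nil_or_concat l with rfl | ⟨l', t, rfl⟩
    · simp at hllen
    rw [List.concat_eq_append] at hlJ hlred hle hllen
    have hl'k : l'.length = k := by simpa using hllen
    have ht : t ∈ J := hlJ t (by simp)
    have hl'J : ∀ y ∈ l', y ∈ J := fun y hy => hlJ y (by simp [hy])
    have hl'w : IsWord P l' := fun y hy => hJ (hl'J y hy)
    have hx'N := hl'w.prod_mem
    have hexl : Eqv P x (l'.prod * t) := by
      have := hle.symm; rwa [List.prod_append, List.prod_singleton] at this
    have hl'len : len P l'.prod = k := by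
      refine le_antisymm (hl'k ▸ len_le_of_word hl'w (Eqv.refl _)) ?_
      have h1 := len_congr hexl
      have h2 := len_mul_right_le (hJ ht) hx'N
      omega
    have hih := ih l'.prod (prod_mem_NJ hl'J) hl'len
    obtain ⟨r, hrw, hrlen, hre⟩ := exists_len (mul_mem hx'N hwN)
    have hc : IsWord P (l'.reverse ++ r) := fun y hy =>
      (List.mem_append.1 hy).elim (fun h => hl'w y (List.mem_reverse.1 h)) (hrw y)
    have hce : Eqv P (l'.reverse ++ r).prod w := by
      rw [List.prod_append]
      refine ((IsWord.eqv_reverse hl'w).mul_right hrw.prod_mem).trans ?_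
      have := hre.mul_left l'.prod⁻¹
      rwa [inv_mul_cancel_left] at this
    have hcred : Red P (l'.reverse ++ r) := ⟨hc, by
      rw [len_congr hce, List.length_append, List.length_reverse, hl'k, hrlen]; omega⟩
    obtain ⟨i, hi, hie⟩ := exchange (hJ ht) hcred (by
      rw [len_congr (hce.mul_left t), ← hcred.2, len_congr hce]; exact h t ht)
    have hup : len P w ≤ len P (x * w) + (k + 1) := by
      have h1 := len_mul_le_add (inv_mem hxN) (mul_mem hxN hwN)
      rw [inv_mul_cancel_left, len_inv hxN, hk] at h1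
      omega
    rcases Nat.lt_or_ge i l'.reverse.length with hlt | hge
    · exfalso
      rw [List.eraseIdx_append_of_lt_length hlt, List.prod_append, List.prod_append,
        ← mul_assoc] at hie
      have h1 := hie.mul_right (inv_mem hrw.prod_mem)
      rw [mul_inv_cancel_right, mul_inv_cancel_right] at h1
      have h2 := len_le_of_word
        (IsWord.sublist (fun y hy => hl'w y (List.mem_reverse.1 hy))
          (List.eraseIdx_sublist l'.reverse i)) h1.symm
      rw [List.length_eraseIdx_of_lt hlt, List.length_reverse, hl'k,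
        len_congr ((IsWord.eqv_reverse hl'w).mul_left t)] at h2
      have h3 : len P (t * l'.prod⁻¹) = len P x := by
        have h4 := len_mul_inv (hJ ht) (inv_mem hx'N)
        rw [inv_inv] at h4
        rw [← h4, len_congr hexl]
      omega
    · rw [List.eraseIdx_append_of_length_le hge, List.prod_append, List.prod_append] at hie
      have hr' : IsWord P (r.eraseIdx (i - l'.reverse.length)) :=
        hrw.sublist (List.eraseIdx_sublist _ _)
      have h1 : Eqv P (r.eraseIdx (i - l'.reverse.length)).prod (x * w) := by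
        have hrev : l'.reverse.prod ∈ P.N :=
          IsWord.prod_mem fun y hy => hl'w y (List.mem_reverse.1 hy)
        -- replace the reversed prefix by the inverse
        have a1 : Eqv P (t * w) (l'.prod⁻¹ * (r.eraseIdx (i - l'.reverse.length)).prod) := by
          refine ((hce.symm.mul_left t).trans ?_).trans
            ((IsWord.eqv_reverse hl'w).mul_right hr'.prod_mem)
          rw [List.prod_append]
          exact hie
        have a2 := a1.mul_left l'.prod
        rw [mul_inv_cancel_left, ← mul_assoc] at a2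
        exact a2.symm.trans (hexl.symm.mul_right hwN)
      have h2 := len_le_of_word hr' h1
      have hi' : i - l'.reverse.length < r.length := by
        rw [List.length_append] at hi; omega
      rw [List.length_eraseIdx_of_lt hi', hrlen] at h2
      omega

theorem LongJ.sub {J : Set G} (hJ : J ⊆ P.S) {w : G} (hw : w ∈ NJ P J) (h : LongJ P J w) {x : G}
    (hx : x ∈ NJ P J) : len P (w * x) + len P x = len P w := by
  have hwN := NJ_le hJ hw
  have hxN := NJ_le hJ hx
  have := long_left hJ (inv_mem hw) (fun s hs => by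
    rw [← len_mul_inv (hJ hs) (inv_mem hwN), inv_inv, len_inv hwN]; exact h s hs) _ (inv_mem hx)
  rwa [← mul_inv_rev, len_inv (mul_mem hwN hxN), len_inv hxN, len_inv hwN] at this

theorem LongJ.le {J : Set G} (hJ : J ⊆ P.S) {w : G} (hw : w ∈ NJ P J) (h : LongJ P J w) {x : G}
    (hx : x ∈ NJ P J) : len P x ≤ len P w := by
  have := h.sub hJ hw (mul_mem (inv_mem hw) hx)
  rw [mul_inv_cancel_left] at this
  omega

theorem LongJ.eqv {J : Set G} (hJ : J ⊆ P.S) {w w' : G} (hw : w ∈ NJ P J) (h : LongJ P J w)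
    (hw' : w' ∈ NJ P J) (hle : len P w ≤ len P w') : Eqv P w w' := by
  have h1 := h.sub hJ hw (mul_mem (inv_mem hw) hw')
  rw [mul_inv_cancel_left] at h1
  have hN := NJ_le hJ (mul_mem (inv_mem hw) hw')
  exact ⟨(len_eq_zero_iff hN).1 (by omega), hN⟩

theorem LongJ.eqv' {J : Set G} (hJ : J ⊆ P.S) {w w' : G} (hw : w ∈ NJ P J) (h : LongJ P J w)
    (hw' : w' ∈ NJ P J) (h' : LongJ P J w') : Eqv P w w' :=
  h.eqv hJ hw hw' (h'.le hJ hw' hw)

theorem exists_long [Finite G] {J : Set G} (hJ : J ⊆ P.S) : ∃ w ∈ NJ P J, LongJ P J w := by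
  have hne : Nonempty ↥(NJ P J) := ⟨1⟩
  obtain ⟨⟨w, hw⟩, hmax⟩ := Finite.exists_max (fun v : ↥(NJ P J) => len P (v : G))
  refine ⟨w, hw, fun s hs => ?_⟩
  have := hmax ⟨w * s, mul_mem hw (mem_NJ hs)⟩
  rcases len_right_up_or_down (hJ hs) (NJ_le hJ hw) with h | h <;>
    (simp only at this; omega)

/-- Descents of a minimal representative times an element of `W_J` are those of the latter. -/
theorem RMin.longJ_iff {J : Set G} (hJ : J ⊆ P.S) {u : G} (huN : u ∈ P.N) (hu : RMin P J u)
    {v : G} (hv : v ∈ NJ P J) : LongJ P J (u * v) ↔ LongJ P J v := by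
  refine forall₂_congr fun s hs => ?_
  rw [mul_assoc, hu.add hJ huN (mul_mem hv (mem_NJ hs)), hu.add hJ huN hv]
  omega

/-! ### Double cosets -/

theorem exists_dmin {J K : Set G} (n : G) : ∃ a ∈ NJ P J, ∃ c ∈ NJ P K,
    ∀ a' ∈ NJ P J, ∀ c' ∈ NJ P K, len P (a * n * c) ≤ len P (a' * (a * n * c) * c') := by
  classical
  have hex : ∃ k, ∃ a ∈ NJ P J, ∃ c ∈ NJ P K, len P (a * n * c) = k :=
    ⟨_, 1, one_mem _, 1, one_mem _, rfl⟩
  obtain ⟨a, ha, c, hc, hk⟩ := Nat.find_spec hex
  refine ⟨a, ha, c, hc, fun a' ha' c' hc' => ?_⟩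
  rw [hk, show a' * (a * n * c) * c' = (a' * a) * n * (c * c') by group]
  exact Nat.find_le ⟨_, mul_mem ha' ha, _, mul_mem hc hc', rfl⟩

theorem dmin_unique {J K : Set G} (hJ : J ⊆ P.S) (hK : K ⊆ P.S) {u w a c : G} (hu : u ∈ P.N)
    (hmin : ∀ a' ∈ NJ P J, ∀ c' ∈ NJ P K, len P u ≤ len P (a' * u * c'))
    (hL : LMin P J w) (hR : RMin P K w) (ha : a ∈ NJ P J) (hc : c ∈ NJ P K)
    (hw : Eqv P w (a * u * c)) : Eqv P w u := by
  obtain ⟨la, hlaJ, hlared, hea⟩ := exists_red_subset hJ ha
  obtain ⟨lc, hlcK, hlcred, hec⟩ := exists_red_subset hK hc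
  obtain ⟨lu, hluw, hlulen, heu⟩ := exists_len hu
  have hW : IsWord P (la ++ lu ++ lc) := fun x hx => by
    rcases List.mem_append.1 hx with hx | hx
    · exact (List.mem_append.1 hx).elim (hlared.1 x) (hluw x)
    · exact hlcred.1 x hx
  obtain ⟨m, hsub, hred, hem⟩ := exists_red_sublist hW
  obtain ⟨m', c', rfl, hm', hc'⟩ := List.sublist_append_iff.1 hsub
  obtain ⟨a', u', rfl, ha', hu'⟩ := List.sublist_append_iff.1 hm'
  have ha'w : IsWord P a' := hlared.1.sublist ha'
  have hu'w : IsWord P u' := hluw.sublist hu'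
  have hc'w : IsWord P c' := hlcred.1.sublist hc'
  have ha'J : a'.prod ∈ NJ P J := prod_mem_NJ fun x hx => hlaJ x (ha'.subset hx)
  have hc'K : c'.prod ∈ NJ P K := prod_mem_NJ fun x hx => hlcK x (hc'.subset hx)
  have e : Eqv P (a'.prod * u'.prod * c'.prod) w := by
    simp only [List.prod_append] at hem
    refine hem.trans (Eqv.trans ?_ hw.symm)
    refine ((hea.mul_right hluw.prod_mem).mul_right hlcred.1.prod_mem).trans ?_
    refine (((heu.mul_left a).mul_right hlcred.1.prod_mem)).trans ?_
    exact hec.mul_left _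
  have hcN := NJ_le hK hc
  -- the middle part is all of the minimal word
  have e1 : Eqv P u'.prod ((a'.prod⁻¹ * a) * u * (c * c'.prod⁻¹)) := by
    have h1 := ((e.trans hw).mul_left a'.prod⁻¹).mul_right (inv_mem hc'w.prod_mem)
    rw [show a'.prod⁻¹ * (a'.prod * u'.prod * c'.prod) * c'.prod⁻¹ = u'.prod by group,
      show a'.prod⁻¹ * (a * u * c) * c'.prod⁻¹ = a'.prod⁻¹ * a * u * (c * c'.prod⁻¹) by group]
      at h1
    exact h1
  have h1 : len P u ≤ u'.length :=
    (hmin _ (mul_mem (inv_mem ha'J) ha) _ (mul_mem hc (inv_mem hc'K))).trans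
      ((len_congr e1).symm.le.trans (len_le_of_word hu'w (Eqv.refl _)))
  have h2 : u' = lu := hu'.eq_of_length (le_antisymm hu'.length_le (hlulen.le.trans h1))
  subst h2
  have hlen := hred.2
  simp only [List.prod_append, List.length_append] at hlen
  rw [len_congr e] at hlen
  have h3 := hL _ (inv_mem ha'J)
  rw [← len_congr (e.mul_left a'.prod⁻¹),
    show a'.prod⁻¹ * (a'.prod * u'.prod * c'.prod) = u'.prod * c'.prod by group,
    ← List.prod_append] at h3
  have h4 := len_le_of_word (l := u' ++ c')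
    (fun x hx => (List.mem_append.1 hx).elim (hu'w x) (hc'w x)) (Eqv.refl _)
  rw [List.length_append] at h4
  have ha0 : a' = [] := List.length_eq_zero_iff.1 (by omega)
  subst ha0
  rw [List.prod_nil, one_mul] at e
  have h5 := hR _ (inv_mem hc'K)
  rw [← len_congr (e.mul_right (inv_mem hc'w.prod_mem)), mul_inv_cancel_right] at h5
  have h6 := len_le_of_word hu'w (Eqv.refl (P := P) u'.prod)
  have hc0 : c' = [] := List.length_eq_zero_iff.1 (by omega)
  subst hc0
  rw [List.prod_nil, mul_one] at e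
  exact e.symm.trans heu

end CfsgLib.BNSteinberg
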