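/-
Chambers, cells and the minimal section of `G/B → G/P_K`.
-/
import Mathlib
import Cfsg.Agent.Lib.BNSteinberg.Length

set_option autoImplicit false

namespace CfsgLib.BNSteinberg

open CfsgLib.Chev.BN

variable {G : Type*} [Group G] {P : Cfsg.BNPair G}

/-- The product of two cells of additive length is the cell of the product. -/
theorem cell_mul : ∀ {w v g h : G}, w ∈ P.N → v ∈ P.N → len P (w * v) = len P w + len P v →
    g ∈ cell P w → h ∈ cell P v → g * h ∈ cell P (w * v) := by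
  suffices H : ∀ k, ∀ {w v g h : G}, len P w = k → w ∈ P.N → v ∈ P.N →
      len P (w * v) = len P w + len P v → g ∈ cell P w → h ∈ cell P v → g * h ∈ cell P (w * v) from
    fun {w v g h} => H _ rfl
  intro k
  induction k with
  | zero =>
    intro w v g h hk hw hv _ hg hh
    have hwH : w ∈ P.B ⊓ P.N := ⟨(len_eq_zero_iff hw).1 hk, hw⟩
    rw [(mem_H_mul_eqv hwH hv).cell_eq]
    refine mul_mem_cell ?_ hh
    obtain ⟨b, hb, b', hb', rfl⟩ := mem_cell.1 hg
    exact mul_mem (mul_mem hb hwH.1) hb'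
  | succ k ih =>
    intro w v g h hk hw hv hadd hg hh
    obtain ⟨s, hs, m, hm, hmk, he⟩ := exists_cons hw hk
    have hmv : m * v ∈ P.N := mul_mem hm hv
    have e : Eqv P (s * (m * v)) (w * v) := by rw [← mul_assoc]; exact he.mul_right hv
    have hadd' : len P (m * v) = len P m + len P v := by
      have h1 := len_mul_le_add hm hv
      have h2 := len_mul_le hs hmv
      rw [len_congr e, hadd, hk] at h2
      omega
    rw [← he.cell_eq] at hg
    obtain ⟨b₁, hb₁, b₂, hb₂, rfl⟩ := mem_cell.1 hg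
    have h1 := ih hmk hm hv hadd'
      (mem_cell.2 ⟨1, one_mem _, b₂, hb₂, by group⟩ : m * b₂ ∈ cell P m) hh
    obtain ⟨c₁, hc₁, c₂, hc₂, ec⟩ := mem_cell.1 h1
    have h2 := step_up hs hmv (by rw [len_congr e, hadd, hk, hadd', hmk]; omega) hc₁
    rw [e.cell_eq] at h2
    rw [show b₁ * (s * m) * b₂ * h = b₁ * (s * (m * b₂ * h)) by group, ec,
      show b₁ * (s * (c₁ * (m * v) * c₂)) = b₁ * (s * c₁ * (m * v) * c₂) by group]
    exact mul_mem_cell hb₁ (mem_cell_mul hc₂ h2)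

/-- Multiplying a cell by a word lands in the cells of the subwords. -/
theorem cell_word {n g : G} (hn : n ∈ P.N) (hg : g ∈ cell P n) : ∀ {l : List G} {h : G},
    IsWord P l → h ∈ cell P l.prod →
      ∃ m : List G, m.Sublist l ∧ g * h ∈ cell P (n * m.prod) := by
  intro l
  induction l using List.reverseRecOn with
  | nil =>
    intro h _ hh
    exact ⟨[], List.Sublist.refl _, by
      simpa using mem_cell_mul (cell_one_subset (by simpa using hh)) hg⟩
  | append_singleton l t ih =>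
    intro h hw hh
    have hlw : IsWord P l := hw.sublist (List.sublist_append_left l [t])
    have ht : t ∈ P.S := hw t (by simp)
    rw [List.prod_append, List.prod_singleton] at hh
    obtain ⟨b₁, hb₁, b₂, hb₂, rfl⟩ := mem_cell.1 hh
    obtain ⟨m, hm, hgm⟩ := ih hlw (mul_mem_cell hb₁ (mem_cell_self l.prod))
    have hmN : n * m.prod ∈ P.N := mul_mem hn (hlw.sublist hm).prod_mem
    have e : g * (b₁ * (l.prod * t) * b₂) = g * (b₁ * l.prod) * 1 * t * b₂ := by group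
    rcases step_right ht hmN (one_mem _) hgm with h4 | h4
    · refine ⟨m ++ [t], hm.append_right [t], ?_⟩
      rw [List.prod_append, List.prod_singleton, ← mul_assoc n, e]
      exact mem_cell_mul hb₂ h4
    · refine ⟨m, hm.trans (List.sublist_append_left l [t]), ?_⟩
      rw [e]
      exact mem_cell_mul hb₂ h4

/-- The element of `N` indexing the cell of a chamber. -/
noncomputable def nC (P : Cfsg.BNPair G) (x : G ⧸ P.B) : G :=
  (exists_cell (P := P) x.out).choose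

theorem nC_mem (x : G ⧸ P.B) : nC P x ∈ P.N :=
  (exists_cell (P := P) x.out).choose_spec.1

theorem out_mem_cell (x : G ⧸ P.B) : x.out ∈ cell P (nC P x) :=
  (exists_cell (P := P) x.out).choose_spec.2

theorem out_mk_cell {g n : G} :
    ((g : G ⧸ P.B)).out ∈ cell P n ↔ g ∈ cell P n := by
  obtain ⟨b, hb⟩ := QuotientGroup.mk_out_eq_mul P.B g
  rw [hb]
  exact ⟨fun h => by simpa using mem_cell_mul (inv_mem b.2) h, mem_cell_mul b.2⟩

theorem mem_cell_nC (g : G) : g ∈ cell P (nC P (g : G ⧸ P.B)) :=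
  out_mk_cell.1 (out_mem_cell _)

theorem nC_eqv {g n : G} (hn : n ∈ P.N) (hg : g ∈ cell P n) :
    Eqv P (nC P (g : G ⧸ P.B)) n :=
  eqv_of_mem_cells (nC_mem _) hn (mem_cell_nC g) hg

theorem out_mk_mem {M : Subgroup G} {H : Subgroup G} (hle : H ≤ M) (g : G) :
    ((g : G ⧸ H)).out ∈ M ↔ g ∈ M := by
  obtain ⟨b, hb⟩ := QuotientGroup.mk_out_eq_mul H g
  rw [hb]
  exact ⟨fun h => by simpa using mul_mem h (inv_mem (hle b.2)), fun h => mul_mem h (hle b.2)⟩

theorem cell_subset_parabolic {J : Set G} (hJ : J ⊆ P.S) {n : G} (hn : n ∈ NJ P J) {g : G}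
    (hg : g ∈ cell P n) : g ∈ P.parabolic J := by
  obtain ⟨b, hb, b', hb', rfl⟩ := mem_cell.1 hg
  exact mul_mem (mul_mem (B_le_parabolic J hb)
    ((mem_parabolic_N hJ (NJ_le hJ hn)).2 hn)) (B_le_parabolic J hb')

theorem parabolic_cell {J : Set G} (hJ : J ⊆ P.S) {g : G} (hg : g ∈ P.parabolic J) :
    ∃ v ∈ NJ P J, g ∈ cell P v := by
  obtain ⟨l, hl, h⟩ := (mem_parabolic_iff hJ).1 hg
  exact ⟨l.prod, prod_mem_NJ hl, h⟩

theorem nC_mem_NJ {J : Set G} (hJ : J ⊆ P.S) {g : G} (hg : g ∈ P.parabolic J) :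
    nC P (g : G ⧸ P.B) ∈ NJ P J := by
  obtain ⟨v, hv, h⟩ := parabolic_cell hJ hg
  exact eqv_mem_NJ (nC_eqv (NJ_le hJ hv) h).symm hv

theorem parabolic_mono {J K : Set G} (h : K ⊆ J) : P.parabolic K ≤ P.parabolic J :=
  sup_le_sup_left (Subgroup.closure_mono h) _

theorem exists_section {K : Set G} (hK : K ⊆ P.S) (g : G) :
    ∃ g₁ w, w ∈ P.N ∧ RMin P K w ∧ g₁ ∈ cell P w ∧ g₁⁻¹ * g ∈ P.parabolic K := by
  obtain ⟨n, hn, hg⟩ := exists_cell (P := P) g
  obtain ⟨v, hv, hmin⟩ := exists_rmin (P := P) (J := K) n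
  obtain ⟨b₁, hb₁, b₂, hb₂, rfl⟩ := mem_cell.1 hg
  refine ⟨b₁ * (n * v), n * v, mul_mem hn (NJ_le hK hv), hmin,
    mul_mem_cell hb₁ (mem_cell_self _), ?_⟩
  rw [show (b₁ * (n * v))⁻¹ * (b₁ * n * b₂) = v⁻¹ * b₂ by group]
  exact mul_mem ((mem_parabolic_N hK (NJ_le hK (inv_mem hv))).2 (inv_mem hv))
    (B_le_parabolic K hb₂)

theorem section_unique {K : Set G} (hK : K ⊆ P.S) {g₁ g₂ w w' : G} (hw : w ∈ P.N)
    (hw' : w' ∈ P.N) (hm : RMin P K w) (hm' : RMin P K w') (h₁ : g₁ ∈ cell P w)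
    (h₂ : g₂ ∈ cell P w') (h : g₁⁻¹ * g₂ ∈ P.parabolic K) : g₁⁻¹ * g₂ ∈ P.B := by
  obtain ⟨v, hv, hc⟩ := parabolic_cell hK h
  have hvN := NJ_le hK hv
  have h3 := cell_mul hw hvN (hm.add hK hw hv) h₁ hc
  rw [mul_inv_cancel_left] at h3
  have e := eqv_of_mem_cells (mul_mem hw hvN) hw' h3 h₂
  have hvH := hm.eqv hK hw hv (hm'.congr hK e.symm)
  obtain ⟨b, hb, b', hb', ec⟩ := mem_cell.1 hc
  rw [ec]
  exact mul_mem (mul_mem hb hvH.1) hb'

/-- The first factor of an additive product of cells is unique. -/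
theorem factor_unique : ∀ {w v g₁ g₂ h₁ h₂ : G}, w ∈ P.N → v ∈ P.N →
    len P (w * v) = len P w + len P v → g₁ ∈ cell P w → g₂ ∈ cell P w → h₁ ∈ cell P v →
      h₂ ∈ cell P v → (g₁ * h₁)⁻¹ * (g₂ * h₂) ∈ P.B → g₁⁻¹ * g₂ ∈ P.B := by
  suffices H : ∀ k, ∀ {w v g₁ g₂ h₁ h₂ : G}, len P v = k → w ∈ P.N → v ∈ P.N →
      len P (w * v) = len P w + len P v → g₁ ∈ cell P w → g₂ ∈ cell P w → h₁ ∈ cell P v →
        h₂ ∈ cell P v → (g₁ * h₁)⁻¹ * (g₂ * h₂) ∈ P.B → g₁⁻¹ * g₂ ∈ P.B from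
    fun {w v g₁ g₂ h₁ h₂} => H _ rfl
  intro k
  induction k with
  | zero =>
    intro w v g₁ g₂ h₁ h₂ hk _ hv _ _ _ hh₁ hh₂ h
    have hvB := (len_eq_zero_iff hv).1 hk
    have a1 : h₁ ∈ P.B := by
      obtain ⟨b, hb, b', hb', rfl⟩ := mem_cell.1 hh₁
      exact mul_mem (mul_mem hb hvB) hb'
    have a2 : h₂ ∈ P.B := by
      obtain ⟨b, hb, b', hb', rfl⟩ := mem_cell.1 hh₂
      exact mul_mem (mul_mem hb hvB) hb'
    rw [show g₁⁻¹ * g₂ = h₁ * ((g₁ * h₁)⁻¹ * (g₂ * h₂)) * h₂⁻¹ by group]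
    exact mul_mem (mul_mem a1 h) (inv_mem a2)
  | succ k ih =>
    intro w v g₁ g₂ h₁ h₂ hk hw hv hadd hg₁ hg₂ hh₁ hh₂ h
    obtain ⟨t, ht, m, hm, hmk, he⟩ := exists_snoc hv hk
    have hwm : w * m ∈ P.N := mul_mem hw hm
    have e : Eqv P (w * m * t) (w * v) := by rw [mul_assoc]; exact he.mul_left w
    have hadd' : len P (w * m) = len P w + len P m := by
      have a1 := len_mul_le_add hw hm
      have a2 := len_mul_right_le ht hwm
      rw [len_congr e, hadd, hk] at a2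
      omega
    have hmin : RMin P ({t} : Set G) (w * m) := by
      refine (rmin_iff (by simpa using ht) hwm).2 fun s hs => ?_
      rw [Set.mem_singleton_iff.1 hs, len_congr e, hadd, hk, hadd', hmk]
      omega
    rw [← he.cell_eq] at hh₁ hh₂
    obtain ⟨a₁, ha₁, b₁, hb₁, rfl⟩ := mem_cell.1 hh₁
    obtain ⟨a₂, ha₂, b₂, hb₂, rfl⟩ := mem_cell.1 hh₂
    have c₁ : a₁ * m ∈ cell P m := mul_mem_cell ha₁ (mem_cell_self m)
    have c₂ : a₂ * m ∈ cell P m := mul_mem_cell ha₂ (mem_cell_self m)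
    refine ih hmk hw hm hadd' hg₁ hg₂ c₁ c₂ (section_unique (by simpa using ht) hwm hwm hmin hmin
      (cell_mul hw hm hadd' hg₁ c₁) (cell_mul hw hm hadd' hg₂ c₂) ?_)
    have hB := B_le_parabolic (P := P) ({t} : Set G)
    rw [show (g₁ * (a₁ * m))⁻¹ * (g₂ * (a₂ * m)) =
      t * (b₁ * ((g₁ * (a₁ * (m * t) * b₁))⁻¹ * (g₂ * (a₂ * (m * t) * b₂))) * b₂⁻¹) * t⁻¹ by
        group]
    exact mul_mem (mul_mem (J_subset_parabolic (Set.mem_singleton t))
      (hB (mul_mem (mul_mem hb₁ h) (inv_mem hb₂))))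
      (inv_mem (J_subset_parabolic (Set.mem_singleton t)))

/-! ### Fixed points -/

/-- The chambers of the parabolic subgroup of `J` whose cell is minimal for `K`. -/
def Sec (P : Cfsg.BNPair G) (J K : Set G) (x : G ⧸ P.B) : Prop :=
  x.out ∈ P.parabolic J ∧ RMin P K (nC P x)

theorem fixed_eq_sec {J K : Set G} (hJ : J ⊆ P.S) (hKJ : K ⊆ J) {b : G} (hb : b ∈ P.B) :
    Nat.card {y : G ⧸ P.parabolic K // y.out ∈ P.parabolic J ∧ b • y = y} =
      Nat.card {x : G ⧸ P.B // Sec P J K x ∧ b • x = x} := by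
  have hK : K ⊆ P.S := hKJ.trans hJ
  have hle : P.parabolic K ≤ P.parabolic J := parabolic_mono hKJ
  symm
  refine Nat.card_eq_of_bijective (fun x => ⟨(x.1.out : G ⧸ P.parabolic K), ?_, ?_⟩) ⟨?_, ?_⟩
  · exact (out_mk_mem hle _).2 x.2.1.1
  · show ((b * x.1.out : G) : G ⧸ P.parabolic K) = (x.1.out : G ⧸ P.parabolic K)
    have h := x.2.2
    rw [← QuotientGroup.out_eq' x.1] at h
    change ((b * x.1.out : G) : G ⧸ P.B) = (x.1.out : G ⧸ P.B) at h
    exact QuotientGroup.eq.2 (B_le_parabolic K (QuotientGroup.eq.1 h))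
  · intro x x' e
    have h := QuotientGroup.eq.1 (congrArg Subtype.val e)
    have h1 := section_unique hK (nC_mem _) (nC_mem _) x.2.1.2 x'.2.1.2 (out_mem_cell _)
      (out_mem_cell _) h
    exact Subtype.ext (by
      rw [← QuotientGroup.out_eq' x.1, ← QuotientGroup.out_eq' x'.1]
      exact QuotientGroup.eq.2 h1)
  · rintro ⟨y, hyJ, hy⟩
    obtain ⟨g₁, w, hw, hmin, hg, hin⟩ := exists_section hK y.out
    have hg1J : g₁ ∈ P.parabolic J := by
      have := mul_mem hyJ (inv_mem (hle hin))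
      rwa [show y.out * (g₁⁻¹ * y.out)⁻¹ = g₁ by group] at this
    have hfix : b • (g₁ : G ⧸ P.B) = (g₁ : G ⧸ P.B) := by
      show ((b * g₁ : G) : G ⧸ P.B) = (g₁ : G ⧸ P.B)
      refine QuotientGroup.eq.2 (section_unique hK hw hw hmin hmin (mul_mem_cell hb hg) hg ?_)
      rw [← QuotientGroup.out_eq' y] at hy
      have hy' : ((b * y.out : G) : G ⧸ P.parabolic K) = (y.out : G ⧸ P.parabolic K) := hy
      rw [show (b * g₁)⁻¹ * g₁ =
        g₁⁻¹ * y.out * ((b * y.out)⁻¹ * y.out) * (g₁⁻¹ * y.out)⁻¹ by group]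
      exact mul_mem (mul_mem hin (QuotientGroup.eq.1 hy')) (inv_mem hin)
    refine ⟨⟨(g₁ : G ⧸ P.B), ⟨(out_mk_mem (B_le_parabolic J) _).2 hg1J,
      hmin.congr hK (nC_eqv hw hg).symm⟩, hfix⟩, Subtype.ext ?_⟩
    show (((g₁ : G ⧸ P.B).out : G) : G ⧸ P.parabolic K) = y
    obtain ⟨c, hc⟩ := QuotientGroup.mk_out_eq_mul P.B g₁
    rw [hc]
    conv_rhs => rw [← QuotientGroup.out_eq' y]
    refine QuotientGroup.eq.2 ?_
    rw [show (g₁ * (c : G))⁻¹ * y.out = (c : G)⁻¹ * (g₁⁻¹ * y.out) by group]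
    exact mul_mem (inv_mem (B_le_parabolic K c.2)) hin

end CfsgLib.BNSteinberg
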