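/-
The alternating sum of the parabolic permutation characters of a finite Tits system.
-/
import Mathlib
import Cfsg.Prelude.Def_Characters
import Cfsg.Prelude.Def_ParabolicCharacters
import Cfsg.Agent.Lib.BNSteinberg.Section
import Cfsg.Agent.Lib.Char.Generalized
import Cfsg.Agent.Lib.Char.PermChar

set_option autoImplicit false
set_option linter.unusedSectionVars false

namespace CfsgLib.BNSteinberg

open CfsgLib.Chev.BN
open scoped ComplexConjugate

variable {G : Type*} [Group G] [Finite G] {P : Cfsg.BNPair G}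

/-- The distinguished generators as a finite set. -/
noncomputable def gens (P : Cfsg.BNPair G) : Finset G := P.S.toFinite.toFinset

theorem coe_gens (P : Cfsg.BNPair G) : (gens P : Set G) = P.S := Set.Finite.coe_toFinset _

/-- The fixed points of `g` on the cosets of `P_K` in `P_J`. -/
noncomputable def fixCount (P : Cfsg.BNPair G) (J K : Set G) (g : G) : ℤ :=
  Nat.card {y : G ⧸ P.parabolic K // y.out ∈ P.parabolic J ∧ g • y = y}

/-- The alternating sum for the parabolic subgroup of `J`. -/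
noncomputable def stJ (P : Cfsg.BNPair G) (J : Finset G) (g : G) : ℤ :=
  ∑ K ∈ J.powerset, (-1 : ℤ) ^ K.card * fixCount P J K g

open _root_.Classical in
theorem sum_subset_filter (J A : Finset G) (hA : A ⊆ J) :
    (∑ K ∈ J.powerset, if K ⊆ A then (-1 : ℤ) ^ K.card else 0) = if A = ∅ then 1 else 0 := by
  rw [← Finset.sum_filter]
  have : J.powerset.filter (fun K => K ⊆ A) = A.powerset := by
    ext K
    simp only [Finset.mem_filter, Finset.mem_powerset]
    exact ⟨fun h => h.2, fun h => ⟨h.trans hA, h⟩⟩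
  rw [this]
  exact Finset.sum_powerset_neg_one_pow_card.trans (if_congr Iff.rfl rfl rfl)

theorem natCard_subtype_int {X : Type*} [Fintype X] (p : X → Prop) [DecidablePred p] :
    (Nat.card {x // p x} : ℤ) = ∑ x : X, if p x then 1 else 0 := by
  rw [Nat.card_eq_fintype_card, Fintype.card_subtype, Finset.sum_boole]

open _root_.Classical in
/-- At an element of `B` only the chambers of the longest cell remain. -/
theorem stJ_borel {J : Finset G} (hJ : (J : Set G) ⊆ P.S) {b : G} (hb : b ∈ P.B) :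
    stJ P J b = (Nat.card {x : G ⧸ P.B //
      (x.out ∈ P.parabolic J ∧ LongJ P J (nC P x)) ∧ b • x = x} : ℤ) := by
  haveI : Fintype (G ⧸ P.B) := Fintype.ofFinite _
  rw [natCard_subtype_int]
  have h1 : ∀ K ∈ J.powerset, (-1 : ℤ) ^ K.card * fixCount P J K b = ∑ x : G ⧸ P.B,
      if Sec P J K x ∧ b • x = x then (-1 : ℤ) ^ K.card else 0 := by
    intro K hK
    rw [fixCount, fixed_eq_sec hJ (by exact_mod_cast Finset.mem_powerset.1 hK) hb,
      natCard_subtype_int, Finset.mul_sum]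
    exact Finset.sum_congr rfl fun x _ => by rw [mul_ite, mul_one, mul_zero]
  rw [stJ, Finset.sum_congr rfl h1, Finset.sum_comm]
  refine Finset.sum_congr rfl fun x _ => ?_
  by_cases hx : x.out ∈ P.parabolic (J : Set G) ∧ b • x = x
  swap
  · rw [if_neg (fun h => hx ⟨h.1.1, h.2⟩)]
    exact Finset.sum_eq_zero fun K _ => if_neg fun h => hx ⟨h.1.1, h.2⟩
  set A := J.filter fun s => len P (nC P x) ≤ len P (nC P x * s) with hA
  rw [Finset.sum_congr rfl (g := fun K => if K ⊆ A then (-1 : ℤ) ^ K.card else 0),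
    sum_subset_filter J A (Finset.filter_subset _ _)]
  · refine if_congr ?_ rfl rfl
    rw [hA, Finset.filter_eq_empty_iff]
    simp only [not_le]
    exact ⟨fun h => ⟨⟨hx.1, fun s hs => h hs⟩, hx.2⟩, fun h s hs => h.1.2 s hs⟩
  · intro K hK
    have hKJ := Finset.mem_powerset.1 hK
    refine if_congr ?_ rfl rfl
    rw [hA, Sec, rmin_iff ((Finset.coe_subset.2 hKJ).trans hJ) (nC_mem x)]
    exact ⟨fun h s hs => Finset.mem_filter.2 ⟨hKJ hs, h.1.2 s hs⟩,
      fun h => ⟨⟨hx.1, fun s hs => (Finset.mem_filter.1 (h hs)).2⟩, hx.2⟩⟩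

/-! ### The whole group -/

theorem fixCount_top (K : Set G) (g : G) :
    (fixCount P P.S K g : ℂ) = Cfsg.fixedPointCharacter (P.parabolic K) g := by
  simp only [fixCount, Cfsg.fixedPointCharacter, Int.cast_natCast, Nat.cast_inj]
  exact Nat.card_congr (Equiv.subtypeEquivRight fun y => by
    rw [MulAction.mem_fixedBy, parabolic_S]
    simp)

theorem stJ_eq_sum (g : G) : (stJ P (gens P) g : ℂ) =
    ∑ K ∈ (gens P).powerset, (-1 : ℂ) ^ K.card *
      Cfsg.fixedPointCharacter (P.parabolic (K : Set G)) g := by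
  rw [stJ]
  push_cast
  exact Finset.sum_congr rfl fun K _ => by rw [coe_gens, fixCount_top]

theorem NJ_S : NJ P P.S = P.N := P.closure_sup

theorem stJ_gens_borel {b : G} (hb : b ∈ P.B) :
    stJ P (gens P) b = (Nat.card {x : G ⧸ P.B // LongJ P P.S (nC P x) ∧ b • x = x} : ℤ) := by
  rw [stJ_borel (J := gens P) (by rw [coe_gens]) hb, coe_gens]
  congr 1
  exact Nat.card_congr (Equiv.subtypeEquivRight fun x => by
    rw [parabolic_S]; simp)

/-! ### Orthogonality -/

/-- The Weyl group classes. -/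
abbrev Wt (P : Cfsg.BNPair G) := ↥P.N ⧸ (P.B ⊓ P.N).subgroupOf P.N

theorem wt_eq_iff {a b : ↥P.N} :
    (a : Wt P) = (b : Wt P) ↔ Eqv P (a : G) (b : G) := QuotientGroup.eq

open _root_.Classical in
theorem card_orbits_parabolic {J K : Set G} (hJ : J ⊆ P.S) (hK : K ⊆ P.S) :
    Nat.card (Quotient (MulAction.orbitRel G ((G ⧸ P.parabolic J) × (G ⧸ P.parabolic K)))) =
      Nat.card {w : Wt P // LMin P J (w.out : G) ∧ RMin P K (w.out : G)} := by
  symm
  refine Nat.card_eq_of_bijective (fun w => Quotient.mk _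
    (((1 : G) : G ⧸ P.parabolic J), (((w.1.out : ↥P.N) : G) : G ⧸ P.parabolic K))) ⟨?_, ?_⟩
  · rintro ⟨w, hwL, hwR⟩ ⟨w', hwL', hwR'⟩ e
    obtain ⟨g, hg⟩ := MulAction.mem_orbit_iff.1 (Quotient.exact e)
    rw [Prod.smul_mk, Prod.mk.injEq] at hg
    obtain ⟨hg1, hg2⟩ := hg
    set u := ((w.out : ↥P.N) : G) with hu
    set u' := ((w'.out : ↥P.N) : G) with hu'
    have huN : u ∈ P.N := (w.out).2
    have huN' : u' ∈ P.N := (w'.out).2
    have h1 : ((g * 1 : G) : G ⧸ P.parabolic J) = ((1 : G) : G ⧸ P.parabolic J) := hg1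
    have h2 : ((g * u' : G) : G ⧸ P.parabolic K) = (u : G ⧸ P.parabolic K) := hg2
    have hgJ : g ∈ P.parabolic J := by simpa using QuotientGroup.eq.1 h1
    have hq := QuotientGroup.eq.1 h2
    obtain ⟨a, ha, hga⟩ := parabolic_cell hJ (inv_mem hgJ)
    obtain ⟨la, hlaJ, hlared, hla⟩ := exists_red_subset hJ ha
    rw [← hla.cell_eq] at hga
    obtain ⟨m, hm, hmc⟩ := cell_word (inv_mem huN') (inv_mem_cell (mem_cell_self u'))
      hlared.1 hga
    have h3 : g * u' ∈ cell P (m.prod⁻¹ * u') := by simpa [mul_assoc] using inv_mem_cell hmc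
    obtain ⟨c, hc, hqc⟩ := parabolic_cell hK hq
    obtain ⟨lc, hlcK, hlcred, hlc⟩ := exists_red_subset hK hc
    rw [← hlc.cell_eq] at hqc
    have hmJ : m.prod ∈ NJ P J := prod_mem_NJ fun x hx => hlaJ x (hm.subset hx)
    obtain ⟨m', hm', hm'c⟩ := cell_word (mul_mem (inv_mem (NJ_le hJ hmJ)) huN') h3 hlcred.1 hqc
    rw [mul_inv_cancel_left] at hm'c
    have hm'K : m'.prod ∈ NJ P K := prod_mem_NJ fun x hx => hlcK x (hm'.subset hx)
    have he := eqv_of_mem_cells huN
      (mul_mem (mul_mem (inv_mem (NJ_le hJ hmJ)) huN') (NJ_le hK hm'K)) (mem_cell_self u) hm'c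
    obtain ⟨a₀, ha₀, c₀, hc₀, hmin⟩ := exists_dmin (P := P) (J := J) (K := K) u'
    set z := a₀ * u' * c₀ with hz
    have hzN : z ∈ P.N := mul_mem (mul_mem (NJ_le hJ ha₀) huN') (NJ_le hK hc₀)
    have e1 : Eqv P u' z := dmin_unique hJ hK hzN hmin hwL' hwR' (inv_mem ha₀) (inv_mem hc₀)
      (by rw [show a₀⁻¹ * z * c₀⁻¹ = u' by rw [hz]; group]; exact Eqv.refl _)
    have e2 : Eqv P u z := dmin_unique hJ hK hzN hmin hwL hwR (mul_mem (inv_mem hmJ) (inv_mem ha₀))
      (mul_mem (inv_mem hc₀) hm'K)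
      (by
        rw [show m.prod⁻¹ * a₀⁻¹ * z * (c₀⁻¹ * m'.prod) = m.prod⁻¹ * u' * m'.prod by
          rw [hz]; group]
        exact he)
    refine Subtype.ext ?_
    show w = w'
    rw [← QuotientGroup.out_eq' w, ← QuotientGroup.out_eq' w']
    exact wt_eq_iff.2 (e2.trans e1.symm)
  · intro q
    induction q using Quotient.inductionOn with
    | _ z =>
    obtain ⟨y₁, y₂⟩ := z
    obtain ⟨n, hn, hg⟩ := exists_cell (P := P) (y₁.out⁻¹ * y₂.out)
    obtain ⟨a, ha, c, hc, hmin⟩ := exists_dmin (P := P) (J := J) (K := K) n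
    set z := a * n * c with hz
    have hzN : z ∈ P.N := mul_mem (mul_mem (NJ_le hJ ha) hn) (NJ_le hK hc)
    set w : Wt P := ((⟨z, hzN⟩ : ↥P.N) : Wt P) with hw
    have hwz : Eqv P z ((w.out : ↥P.N) : G) :=
      (wt_eq_iff (a := ⟨z, hzN⟩) (b := w.out)).1 (by rw [QuotientGroup.out_eq' w])
    have hL : LMin P J z := fun a' ha' => by
      simpa using hmin a' ha' 1 (one_mem _)
    have hR : RMin P K z := fun c' hc' => by
      simpa using hmin 1 (one_mem _) c' hc'
    refine ⟨⟨w, hL.congr hwz, hR.congr hK hwz⟩, Quotient.sound ?_⟩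
    show (((1 : G) : G ⧸ P.parabolic J), (((w.out : ↥P.N) : G) : G ⧸ P.parabolic K)) ∈
      MulAction.orbit G (y₁, y₂)
    rw [MulAction.mem_orbit_iff]
    obtain ⟨b₁, hb₁, b₂, hb₂, e⟩ := mem_cell.1 hg
    refine ⟨a * b₁⁻¹ * y₁.out⁻¹, ?_⟩
    rw [Prod.smul_mk]
    have hy₁ : (a * b₁⁻¹ * y₁.out⁻¹) • y₁ =
        ((a * b₁⁻¹ * y₁.out⁻¹ * y₁.out : G) : G ⧸ P.parabolic J) := by
      have := MulAction.Quotient.smul_mk (P.parabolic J) (a * b₁⁻¹ * y₁.out⁻¹) y₁.out
      rwa [QuotientGroup.out_eq'] at this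
    have hy₂ : (a * b₁⁻¹ * y₁.out⁻¹) • y₂ =
        ((a * b₁⁻¹ * y₁.out⁻¹ * y₂.out : G) : G ⧸ P.parabolic K) := by
      have := MulAction.Quotient.smul_mk (P.parabolic K) (a * b₁⁻¹ * y₁.out⁻¹) y₂.out
      rwa [QuotientGroup.out_eq'] at this
    rw [hy₁, hy₂]
    refine Prod.ext ?_ ?_
    · show ((a * b₁⁻¹ * y₁.out⁻¹ * y₁.out : G) : G ⧸ P.parabolic J) = _
      refine QuotientGroup.eq.2 ?_
      simp only [inv_mul_cancel_right, mul_inv_rev, inv_inv, mul_one]
      exact mul_mem (B_le_parabolic J hb₁)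
        ((mem_parabolic_N hJ (NJ_le hJ (inv_mem ha))).2 (inv_mem ha))
    · show ((a * b₁⁻¹ * y₁.out⁻¹ * y₂.out : G) : G ⧸ P.parabolic K) = _
      refine QuotientGroup.eq.2 ?_
      rw [show (a * b₁⁻¹ * y₁.out⁻¹ * y₂.out)⁻¹ * ((w.out : ↥P.N) : G) =
        (y₁.out⁻¹ * y₂.out)⁻¹ * b₁ * a⁻¹ * ((w.out : ↥P.N) : G) by group, e,
        show (b₁ * n * b₂)⁻¹ * b₁ * a⁻¹ * ((w.out : ↥P.N) : G) =
          b₂⁻¹ * (c * (z⁻¹ * ((w.out : ↥P.N) : G))) by rw [hz]; group]
      exact mul_mem (inv_mem (B_le_parabolic K hb₂)) (mul_mem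
        ((mem_parabolic_N hK (NJ_le hK hc)).2 hc) (B_le_parabolic K hwz.1))

open _root_.Classical in
theorem classInner_stJ [Fintype G] {J : Finset G} (hJ : (J : Set G) ⊆ P.S) :
    Cfsg.classInner (Cfsg.fixedPointCharacter (P.parabolic (J : Set G)))
      (fun g => (stJ P (gens P) g : ℂ)) = if J = ∅ then 1 else 0 := by
  haveI : Fintype (Wt P) := Fintype.ofFinite _
  have horb : ∀ H₁ H₂ : Subgroup G,
      Cfsg.classInner (Cfsg.fixedPointCharacter H₁) (Cfsg.fixedPointCharacter H₂)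
        = (Nat.card (Quotient (MulAction.orbitRel G ((G ⧸ H₁) × (G ⧸ H₂)))) : ℂ) := by
    intro H₁ H₂
    rw [CfsgLib.Char.classInner_def, inv_mul_eq_iff_eq_mul₀ CfsgLib.Char.card_ne_zero',
      ← CfsgLib.Char.sum_fixed_eq_card_orbits]
    refine Finset.sum_congr rfl fun g _ => ?_
    simp only [Cfsg.fixedPointCharacter]
    rw [map_natCast, ← Nat.cast_mul, ← Nat.card_prod, Nat.cast_inj]
    refine Nat.card_congr ((Equiv.Set.prod _ _).symm.trans (Equiv.setCongr (by
      ext ⟨a, b⟩; simp [MulAction.mem_fixedBy, Prod.ext_iff])))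
  have e : (fun g => (stJ P (gens P) g : ℂ)) = ∑ K ∈ (gens P).powerset,
      ((-1 : ℂ) ^ K.card) • Cfsg.fixedPointCharacter (P.parabolic (K : Set G)) := by
    funext g
    rw [stJ_eq_sum, Finset.sum_apply]
    rfl
  rw [e, CfsgLib.Char.classInner_sum_right]
  have hterm : ∀ K ∈ (gens P).powerset,
      Cfsg.classInner (Cfsg.fixedPointCharacter (P.parabolic (J : Set G)))
        (((-1 : ℂ) ^ K.card) • Cfsg.fixedPointCharacter (P.parabolic (K : Set G))) =
      ((∑ w : Wt P, if LMin P J ((w.out : ↥P.N) : G) ∧ RMin P K ((w.out : ↥P.N) : G)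
        then (-1 : ℤ) ^ K.card else 0 : ℤ) : ℂ) := by
    intro K hK
    have hKS : (K : Set G) ⊆ P.S := by
      rw [← coe_gens P]; exact_mod_cast Finset.mem_powerset.1 hK
    rw [CfsgLib.Char.classInner_smul_right, horb, card_orbits_parabolic hJ hKS]
    have h2 : (∑ w : Wt P, if LMin P J ((w.out : ↥P.N) : G) ∧ RMin P K ((w.out : ↥P.N) : G)
        then (-1 : ℤ) ^ K.card else 0) = (-1 : ℤ) ^ K.card *
          (Nat.card {w : Wt P // LMin P J ((w.out : ↥P.N) : G) ∧ RMin P K ((w.out : ↥P.N) : G)} : ℤ) := by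
      rw [natCard_subtype_int, Finset.mul_sum]
      exact Finset.sum_congr rfl fun w _ => by rw [mul_ite, mul_one, mul_zero]
    rw [h2]
    simp
  rw [Finset.sum_congr rfl hterm, ← Int.cast_sum, Finset.sum_comm]
  have hw : ∀ w : Wt P, (∑ K ∈ (gens P).powerset,
      if LMin P J ((w.out : ↥P.N) : G) ∧ RMin P K ((w.out : ↥P.N) : G)
        then (-1 : ℤ) ^ K.card else 0) =
      if LMin P J ((w.out : ↥P.N) : G) ∧ LongJ P P.S ((w.out : ↥P.N) : G) then 1 else 0 := by
    intro w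
    set u := ((w.out : ↥P.N) : G) with hu
    by_cases hL : LMin P J u
    swap
    · rw [if_neg fun h => hL h.1]
      exact Finset.sum_eq_zero fun K _ => if_neg fun h => hL h.1
    set A := (gens P).filter fun s => len P u ≤ len P (u * s) with hA
    rw [Finset.sum_congr rfl (g := fun K => if K ⊆ A then (-1 : ℤ) ^ K.card else 0),
      sum_subset_filter _ A (Finset.filter_subset _ _)]
    · refine if_congr ?_ rfl rfl
      rw [hA, Finset.filter_eq_empty_iff]
      simp only [not_le]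
      refine ⟨fun h => ⟨hL, fun s hs => h ?_⟩, fun h s hs => h.2 s ?_⟩
      · rwa [← Finset.mem_coe, coe_gens]
      · rwa [← coe_gens P]
    · intro K hK
      have hKg := Finset.mem_powerset.1 hK
      refine if_congr ?_ rfl rfl
      rw [hA, rmin_iff ((Finset.coe_subset.2 hKg).trans (coe_gens P).subset) (w.out).2]
      exact ⟨fun h s hs => Finset.mem_filter.2 ⟨hKg hs, h.2 s hs⟩,
        fun h => ⟨hL, fun s hs => (Finset.mem_filter.1 (h hs)).2⟩⟩
  rw [Finset.sum_congr rfl fun w _ => hw w]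
  obtain ⟨w₀, hw₀, hlong⟩ := exists_long (P := P) (J := P.S) subset_rfl
  have hw₀N : w₀ ∈ P.N := NJ_le subset_rfl hw₀
  by_cases hJ0 : J = ∅
  · subst hJ0
    rw [if_pos rfl]
    have hL : ∀ u ∈ P.N, LMin P ((∅ : Finset G) : Set G) u := by
      intro u hu v hv
      have hv' : v ∈ P.B ⊓ P.N := by simpa [NJ] using hv
      exact (len_congr (mem_H_mul_eqv hv' hu)).symm.le
    rw [Finset.sum_eq_single (((⟨w₀, hw₀N⟩ : ↥P.N) : Wt P))]
    · have e1 : Eqv P w₀ ((((⟨w₀, hw₀N⟩ : ↥P.N) : Wt P).out : ↥P.N) : G) :=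
        (wt_eq_iff (a := ⟨w₀, hw₀N⟩)).1 (QuotientGroup.out_eq' _).symm
      rw [if_pos ⟨hL _ (((⟨w₀, hw₀N⟩ : ↥P.N) : Wt P).out).2, longJ_congr subset_rfl e1 hlong⟩]
      simp
    · intro w _ hne
      refine if_neg fun h => hne ?_
      rw [← QuotientGroup.out_eq' w]
      refine wt_eq_iff.2 (LongJ.eqv' subset_rfl ?_ h.2 hw₀ hlong)
      rw [NJ_S]; exact (w.out).2
    · simp
  · rw [if_neg hJ0]
    obtain ⟨s, hs⟩ := Finset.nonempty_iff_ne_empty.2 hJ0
    rw [Finset.sum_eq_zero, Int.cast_zero]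
    intro w _
    refine if_neg fun h => ?_
    have h1 := h.1 s (mem_NJ hs)
    have h2 := h.2.le subset_rfl (x := s * ((w.out : ↥P.N) : G))
      (by rw [NJ_S]; exact (w.out).2) (by rw [NJ_S]; exact mul_mem (s_mem_N (hJ hs)) (w.out).2)
    exact len_mul_ne (hJ hs) (w.out).2 (le_antisymm h2 h1)

theorem classInner_stJ_self [Fintype G] :
    Cfsg.classInner (fun g => (stJ P (gens P) g : ℂ)) (fun g => (stJ P (gens P) g : ℂ)) = 1 := by
  classical
  have e : (fun g => (stJ P (gens P) g : ℂ)) = ∑ K ∈ (gens P).powerset,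
      ((-1 : ℂ) ^ K.card) • Cfsg.fixedPointCharacter (P.parabolic (K : Set G)) := by
    funext g
    rw [stJ_eq_sum, Finset.sum_apply]
    rfl
  conv_lhs => arg 1; rw [e]
  rw [CfsgLib.Char.classInner_sum_left]
  rw [Finset.sum_eq_single (∅ : Finset G)]
  · rw [CfsgLib.Char.classInner_smul_left, classInner_stJ (by simp)]
    simp
  · intro K hK hne
    rw [CfsgLib.Char.classInner_smul_left, classInner_stJ (by
      rw [← coe_gens P]; exact_mod_cast Finset.mem_powerset.1 hK), if_neg hne, mul_zero]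
  · intro h
    exact absurd (Finset.empty_mem_powerset _) h

/-- The alternating sum is an irreducible character. -/
theorem isIrr_stJ : Cfsg.IsIrrCharacter G (fun g => (stJ P (gens P) g : ℂ)) := by
  classical
  haveI := Fintype.ofFinite G
  refine CfsgLib.Char.gen_norm_one_pos ?_ classInner_stJ_self ?_
  · have e : (fun g => (stJ P (gens P) g : ℂ)) = ∑ K ∈ (gens P).powerset,
        (((-1 : ℤ) ^ K.card : ℤ) : ℂ) • Cfsg.fixedPointCharacter (P.parabolic (K : Set G)) := by
      funext g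
      rw [stJ_eq_sum, Finset.sum_apply]
      exact Finset.sum_congr rfl fun K _ => by simp
    rw [e]
    exact CfsgLib.Char.isGen_sum _ fun K _ => CfsgLib.Char.isGen_intCast_smul
      (CfsgLib.Char.isGen_of_char (CfsgLib.Char.isCharacter_permChar (G := G)
        (X := G ⧸ P.parabolic (K : Set G)))) _
  · show 0 < ((stJ P (gens P) 1 : ℂ)).re
    rw [stJ_gens_borel (one_mem _)]
    simp only [Int.cast_natCast, Complex.natCast_re, Nat.cast_pos]
    obtain ⟨w₀, hw₀, hlong⟩ := exists_long (P := P) (J := P.S) subset_rfl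
    have : Nonempty {x : G ⧸ P.B // LongJ P P.S (nC P x) ∧ (1 : G) • x = x} :=
      ⟨⟨(w₀ : G ⧸ P.B), longJ_congr subset_rfl
        (nC_eqv (NJ_le subset_rfl hw₀) (mem_cell_self _)).symm hlong, one_smul _ _⟩⟩
    exact Nat.card_pos

end CfsgLib.BNSteinberg
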