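/-
Split Tits systems in characteristic `p`: the Sylow subgroup, the degree and the vanishing of the
alternating sum.
-/
import Mathlib
import Cfsg.Agent.Lib.BNSteinberg.Alternating
import Cfsg.Agent.Lib.Char.DefectZero

set_option autoImplicit false
set_option linter.unusedSectionVars false

namespace CfsgLib.BNSteinberg

open CfsgLib.Chev.BN

variable {G : Type*} [Group G] [Finite G] {P : Cfsg.BNPair G} {p : ℕ} {U : Subgroup G}

/-- A split Tits system in characteristic `p` with unipotent part `U`. -/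
structure Split (P : Cfsg.BNPair G) (p : ℕ) (U : Subgroup G) : Prop where
  le : U ≤ P.B
  normal : ∀ b ∈ P.B, ∀ u ∈ U, b * u * b⁻¹ ∈ U
  pgroup : IsPGroup p U
  decomp : ∀ b ∈ P.B, ∃ u ∈ U, ∃ h ∈ P.B ⊓ P.N, b = u * h
  torus : ∀ h ∈ P.B ⊓ P.N, ∀ k : ℕ, h ^ p ^ k = 1 → h = 1
  rankone : ∀ s ∈ P.S, ∀ u ∈ U, ∀ d ∈ U, s⁻¹ * d * s ∈ P.B → s⁻¹ * (u * d * u⁻¹) * s ∈ P.B
  opp : ∃ n ∈ P.N, ∀ u ∈ U, n⁻¹ * u * n ∈ P.B → u = 1

theorem exists_not_mem_sB {s : G} (hs : s ∈ P.S) : ∃ b ∈ P.B, s⁻¹ * b * s ∉ P.B := by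
  obtain ⟨b, hb, hc⟩ := exists_sbs_mem (P := P) hs
  refine ⟨s * s * b, mul_mem (P.sq_mem s hs) hb, fun h => s_not_mem_B hs ?_⟩
  rw [show s⁻¹ * (s * s * b) * s = s * b * s by group] at h
  obtain ⟨b₁, hb₁, b₂, hb₂, e⟩ := mem_cell.1 hc
  rw [show s = b₁⁻¹ * (s * b * s) * b₂⁻¹ by rw [e]; group]
  exact mul_mem (mul_mem (inv_mem hb₁) h) (inv_mem hb₂)

theorem conj_pow_eq_one {g k : G} {m : ℕ} (h : g ^ m = 1) : (k⁻¹ * g * k) ^ m = 1 := by
  rw [show k⁻¹ * g * k = k⁻¹ * g * k⁻¹⁻¹ by simp, conj_pow, h]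
  simp

/-- Two points are joined by an element of `B` when in the same cell. -/
theorem orbit_cell {n g : G} (hn : n ∈ P.N) (hs : Split P p U) (hg : g ∈ cell P n) :
    ∃ u ∈ U, ((u * n : G) : G ⧸ P.B) = (g : G ⧸ P.B) := by
  obtain ⟨b, hb, b', hb', rfl⟩ := mem_cell.1 hg
  obtain ⟨u, hu, h, hh, rfl⟩ := hs.decomp b hb
  refine ⟨u, hu, QuotientGroup.eq.2 ?_⟩
  rw [show (u * n)⁻¹ * (u * h * n * b') = (n⁻¹ * h * n) * b' by group]
  exact mul_mem (conj_mem_H' hn hh).1 hb'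

theorem Split.smul_one (hs : Split P p U) {u : G} (hu : u ∈ U) :
    u • ((1 : G) : G ⧸ P.B) = ((1 : G) : G ⧸ P.B) := by
  show ((u * 1 : G) : G ⧸ P.B) = ((1 : G) : G ⧸ P.B)
  refine QuotientGroup.eq.2 ?_
  simpa using hs.le hu

theorem Split.unip (hs : Split P p U) {b : G} (hb : b ∈ P.B) {k : ℕ} (hk : b ^ p ^ k = 1) :
    b ∈ U := by
  obtain ⟨u, hu, h, hh, rfl⟩ := hs.decomp b hb
  have key : ∀ m : ℕ, ∃ v ∈ U, (u * h) ^ m = v * h ^ m := by
    intro m
    induction m with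
    | zero => exact ⟨1, one_mem _, by simp⟩
    | succ m ih =>
      obtain ⟨v, hv, e⟩ := ih
      refine ⟨v * (h ^ m * u * (h ^ m)⁻¹),
        mul_mem hv (hs.normal _ (pow_mem hh.1 m) u hu), ?_⟩
      rw [pow_succ, e, pow_succ]
      simp only [mul_assoc, inv_mul_cancel_left]
  obtain ⟨v, hv, e⟩ := key (p ^ k)
  rw [hk] at e
  have hpow : h ^ p ^ k ∈ U := by
    rw [← inv_eq_of_mul_eq_one_right e.symm]; exact inv_mem hv
  obtain ⟨j, hj⟩ := hs.pgroup ⟨_, hpow⟩
  have hj' : h ^ p ^ (k + j) = 1 := by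
    have := congrArg Subtype.val hj
    rwa [SubgroupClass.coe_pow, ← pow_mul, ← pow_add] at this
  rw [hs.torus h hh _ hj', mul_one]
  exact hu

theorem Split.conj_U (hs : Split P p U) {g u : G} (hu : u ∈ U) (h : g⁻¹ * u * g ∈ P.B) :
    g⁻¹ * u * g ∈ U := by
  obtain ⟨k, hk⟩ := hs.pgroup ⟨u, hu⟩
  have hk' : u ^ p ^ k = 1 := by simpa using congrArg Subtype.val hk
  exact hs.unip h (conj_pow_eq_one hk')

/-- The opposite element is longest. -/
theorem Split.opp_long (hs : Split P p U) {n : G} (hn : n ∈ P.N)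
    (hopp : ∀ u ∈ U, n⁻¹ * u * n ∈ P.B → u = 1) : LongJ P P.S n := by
  intro s hsS
  rcases len_right_up_or_down hsS hn with hup | hdown
  swap
  · omega
  exfalso
  obtain ⟨b, hb, hne⟩ := exists_not_mem_sB (P := P) hsS
  have hnb : n * b ∈ cell P n := mem_cell_mul hb (mem_cell_self n)
  have hnbs : n * b * s ∈ cell P (n * s) :=
    cell_mul hn (s_mem_N hsS) (by rw [hup, len_s hsS]) hnb (mem_cell_self s)
  obtain ⟨u, hu, e⟩ := orbit_cell (mul_mem hn (s_mem_N hsS)) hs hnbs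
  have hS : ({s} : Set G) ⊆ P.S := by simpa using hsS
  have hmin : RMin P ({s} : Set G) n := (rmin_iff hS hn).2 fun t ht => by
    rw [Set.mem_singleton_iff.1 ht, hup]; omega
  have hsP : s ∈ P.parabolic ({s} : Set G) := J_subset_parabolic (Set.mem_singleton s)
  have hB := QuotientGroup.eq.1 e
  have h1 := section_unique hS hn hn hmin hmin (mul_mem_cell (hs.le hu) (mem_cell_self n)) hnb (by
    rw [show (u * n)⁻¹ * (n * b) = s * ((u * (n * s))⁻¹ * (n * b * s)) * s⁻¹ by group]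
    exact mul_mem (mul_mem hsP (B_le_parabolic _ hB)) (inv_mem hsP))
  have h2 : n⁻¹ * u * n ∈ P.B := by
    have := inv_mem (mul_mem h1 (inv_mem hb))
    rwa [show ((u * n)⁻¹ * (n * b) * b⁻¹)⁻¹ = n⁻¹ * u * n by group] at this
  rw [hopp u hu h2] at hB
  apply hne
  rwa [show (1 * (n * s))⁻¹ * (n * b * s) = s⁻¹ * b * s by group] at hB

theorem Split.opp_of_long (hs : Split P p U) {n : G} (hn : n ∈ P.N) (hlong : LongJ P P.S n)
    {u : G} (hu : u ∈ U) (h : n⁻¹ * u * n ∈ P.B) : u = 1 := by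
  obtain ⟨n₀, hn₀, hopp⟩ := hs.opp
  have e := LongJ.eqv' (subset_refl P.S) (by rw [NJ_S]; exact hn) hlong
    (by rw [NJ_S]; exact hn₀) (hs.opp_long hn₀ hopp)
  refine hopp u hu ?_
  rw [show n₀⁻¹ * u * n₀ = (n⁻¹ * n₀)⁻¹ * (n⁻¹ * u * n) * (n⁻¹ * n₀) by group]
  exact mul_mem (mul_mem (inv_mem e.1) h) e.1

/-- The longest cell has as many chambers as `U` has elements. -/
theorem Split.card_long (hs : Split P p U) :
    Nat.card {x : G ⧸ P.B // LongJ P P.S (nC P x)} = Nat.card U := by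
  obtain ⟨n, hnJ, hlong⟩ := exists_long (P := P) (J := P.S) (subset_refl _)
  have hn : n ∈ P.N := NJ_le subset_rfl hnJ
  symm
  refine Nat.card_eq_of_bijective (fun u => ⟨(((u : G) * n : G) : G ⧸ P.B),
    longJ_congr subset_rfl (nC_eqv hn (mul_mem_cell (hs.le u.2) (mem_cell_self n))).symm hlong⟩)
    ⟨?_, ?_⟩
  · intro u v e
    have h := QuotientGroup.eq.1 (congrArg Subtype.val e)
    have h1 := hs.opp_of_long hn hlong (mul_mem (inv_mem u.2) v.2) (by
      rwa [show ((u : G) * n)⁻¹ * ((v : G) * n) = n⁻¹ * ((u : G)⁻¹ * (v : G)) * n by group] at h)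
    exact Subtype.ext (inv_mul_eq_one.1 h1)
  · rintro ⟨x, hx⟩
    have e := LongJ.eqv' (subset_refl P.S) (by rw [NJ_S]; exact nC_mem x) hx hnJ hlong
    obtain ⟨u, hu, hux⟩ := orbit_cell hn hs (e.cell_eq ▸ out_mem_cell x)
    exact ⟨⟨u, hu⟩, Subtype.ext (by rwa [QuotientGroup.out_eq'] at hux)⟩

theorem Split.stJ_one (hs : Split P p U) : stJ P (gens P) 1 = (Nat.card U : ℤ) := by
  rw [stJ_gens_borel (one_mem _), ← hs.card_long]
  congr 1
  exact Nat.card_congr (Equiv.subtypeEquivRight fun x => by simp)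

/-- The restriction to `B` is the permutation character on the cosets of `B ∩ N`. -/
theorem Split.stJ_restrict (hs : Split P p U) (b : ↥P.B) :
    (stJ P (gens P) (b : G) : ℂ) =
      Cfsg.fixedPointCharacter ((P.B ⊓ P.N).subgroupOf P.B) b := by
  obtain ⟨n, hnJ, hlong⟩ := exists_long (P := P) (J := P.S) (subset_refl _)
  have hn : n ∈ P.N := NJ_le subset_rfl hnJ
  rw [stJ_gens_borel b.2]
  simp only [Cfsg.fixedPointCharacter, Int.cast_natCast, Nat.cast_inj]
  have hstab : ∀ c ∈ P.B, (n⁻¹ * c * n ∈ P.B ↔ c ∈ P.B ⊓ P.N) := by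
    intro c hc
    refine ⟨fun h => ?_, fun h => (conj_mem_H' hn h).1⟩
    obtain ⟨u, hu, k, hk, rfl⟩ := hs.decomp c hc
    have := mul_mem h (inv_mem (conj_mem_H' hn hk).1)
    rw [show n⁻¹ * (u * k) * n * (n⁻¹ * k * n)⁻¹ = n⁻¹ * u * n by group] at this
    rwa [hs.opp_of_long hn hlong hu this, one_mul]
  let f : ↥P.B ⧸ (P.B ⊓ P.N).subgroupOf P.B → G ⧸ P.B :=
    fun y => (((y.out : ↥P.B) : G) * n : G)
  have hf : ∀ c : ↥P.B,
      f (c : ↥P.B ⧸ (P.B ⊓ P.N).subgroupOf P.B) = (((c : G) * n : G) : G ⧸ P.B) := by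
    intro c
    obtain ⟨h, hh⟩ := QuotientGroup.mk_out_eq_mul ((P.B ⊓ P.N).subgroupOf P.B) c
    have hmem : ((h : ↥P.B) : G) ∈ P.B ⊓ P.N := h.2
    refine QuotientGroup.eq.2 ?_
    rw [hh, Subgroup.coe_mul, show ((c : G) * ((h : ↥P.B) : G) * n)⁻¹ * ((c : G) * n) =
      n⁻¹ * ((h : ↥P.B) : G)⁻¹ * n by group]
    exact (conj_mem_H' hn (inv_mem hmem)).1
  have hsmul : ∀ y, f (b • y) = (b : G) • f y := by
    intro y
    induction y using QuotientGroup.induction_on with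
    | _ c =>
      show f ((b * c : ↥P.B) : ↥P.B ⧸ (P.B ⊓ P.N).subgroupOf P.B) = _
      rw [hf, hf, Subgroup.coe_mul]
      show _ = (((b : G) * ((c : G) * n) : G) : G ⧸ P.B)
      rw [mul_assoc]
  have hinj : Function.Injective f := by
    intro y y' e
    induction y using QuotientGroup.induction_on with
    | _ c =>
      induction y' using QuotientGroup.induction_on with
      | _ c' =>
        rw [hf, hf] at e
        have h := QuotientGroup.eq.1 e
        rw [show ((c : G) * n)⁻¹ * ((c' : G) * n) = n⁻¹ * ((c : G)⁻¹ * (c' : G)) * n by group,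
          hstab _ (mul_mem (inv_mem c.2) c'.2)] at h
        exact QuotientGroup.eq.2 h
  symm
  refine Nat.card_eq_of_bijective (fun y => ⟨f y.1, ?_, ?_⟩) ⟨?_, ?_⟩
  · refine longJ_congr subset_rfl (nC_eqv hn ?_).symm hlong
    exact mul_mem_cell (y.1.out : ↥P.B).2 (mem_cell_self n)
  · rw [← hsmul, show b • y.1 = y.1 from y.2]
  · exact fun y y' e => Subtype.ext (hinj (congrArg Subtype.val e))
  · rintro ⟨x, hx, hbx⟩
    have e := LongJ.eqv' (subset_refl P.S) (by rw [NJ_S]; exact nC_mem x) hx hnJ hlong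
    obtain ⟨u, hu, hux⟩ := orbit_cell hn hs (e.cell_eq ▸ out_mem_cell x)
    rw [QuotientGroup.out_eq'] at hux
    refine ⟨⟨((⟨u, hs.le hu⟩ : ↥P.B) : ↥P.B ⧸ (P.B ⊓ P.N).subgroupOf P.B), ?_⟩,
      Subtype.ext ((hf _).trans hux)⟩
    show b • _ = _
    apply hinj
    rw [hsmul, hf]
    show (b : G) • (((u * n : G)) : G ⧸ P.B) = _
    rw [hux, hbx]

/-- The only chamber fixed by all of `U` is `B`. -/
theorem Split.fixed_eq_one (hs : Split P p U) {n : G} (hn : n ∈ P.N)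
    (h : ∀ u ∈ U, n⁻¹ * u * n ∈ P.B) : n ∈ P.B := by
  suffices H : ∀ k, ∀ n ∈ P.N, len P n = k → (∀ u ∈ U, n⁻¹ * u * n ∈ P.B) → n ∈ P.B from
    H _ n hn rfl h
  intro k
  induction k with
  | zero => intro n hn hk _; exact (len_eq_zero_iff hn).1 hk
  | succ k ih =>
    intro n hn hk h
    exfalso
    obtain ⟨s, hsS, m, hm, hmk, he⟩ := exists_snoc hn hk
    have hadd : len P (m * s) = len P m + len P s := by
      rw [len_congr he, hk, hmk, len_s hsS]
    have hm' : ∀ u ∈ U, m⁻¹ * u * m ∈ P.B := by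
      intro u hu
      have hfix : (m * s)⁻¹ * u * (m * s) ∈ P.B := by
        have h1 : (m * s)⁻¹ * n ∈ P.B := he.1
        have := mul_mem (mul_mem h1 (h u hu)) (inv_mem h1)
        rwa [show (m * s)⁻¹ * n * (n⁻¹ * u * n) * ((m * s)⁻¹ * n)⁻¹ =
          (m * s)⁻¹ * u * (m * s) by group] at this
      have := factor_unique hm (s_mem_N hsS) hadd (mem_cell_self m)
        (mul_mem_cell (hs.le hu) (mem_cell_self m)) (mem_cell_self s) (mem_cell_self s)
        (by rwa [show (m * s)⁻¹ * (u * m * s) = (m * s)⁻¹ * u * (m * s) by group])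
      rwa [← mul_assoc] at this
    have hmB := ih m hm hmk hm'
    have hsB : ∀ u ∈ U, s⁻¹ * u * s ∈ P.B := by
      intro u hu
      have hu' : m * u * m⁻¹ ∈ U := hs.normal m hmB u hu
      have := h _ hu'
      have h1 : (m * s)⁻¹ * n ∈ P.B := he.1
      have := mul_mem (mul_mem h1 this) (inv_mem h1)
      rwa [show (m * s)⁻¹ * n * (n⁻¹ * (m * u * m⁻¹) * n) * ((m * s)⁻¹ * n)⁻¹ =
        s⁻¹ * u * s by group] at this
    obtain ⟨b, hb, hne⟩ := exists_not_mem_sB (P := P) hsS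
    obtain ⟨u, hu, t, ht, rfl⟩ := hs.decomp b hb
    apply hne
    rw [show s⁻¹ * (u * t) * s = (s⁻¹ * u * s) * (s⁻¹ * t * s) by group]
    exact mul_mem (hsB u hu) (conj_mem_H' (s_mem_N hsS) ht).1

theorem Split.index_mod (hs : Split P p U) [Fact p.Prime] : ¬ p ∣ Nat.card (G ⧸ P.B) := by
  intro hdvd
  have h1 := hs.pgroup.card_modEq_card_fixedPoints (G ⧸ P.B)
  have h2 : MulAction.fixedPoints U (G ⧸ P.B) = {((1 : G) : G ⧸ P.B)} := by
    ext x
    simp only [MulAction.mem_fixedPoints, Set.mem_singleton_iff, Subtype.forall]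
    refine ⟨fun h => ?_, fun h u hu => by rw [h]; exact hs.smul_one hu⟩
    obtain ⟨n, hn, hg⟩ := exists_cell (P := P) x.out
    obtain ⟨b, hb, b', hb', e⟩ := mem_cell.1 hg
    have hnB : n ∈ P.B := by
      refine hs.fixed_eq_one hn fun u hu => ?_
      have := h _ (hs.normal b hb u hu)
      rw [← QuotientGroup.out_eq' x] at this
      have h3 : ((b * u * b⁻¹ * x.out : G) : G ⧸ P.B) = (x.out : G ⧸ P.B) := this
      have h4 := inv_mem (QuotientGroup.eq.1 h3)
      rw [e] at h4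
      have := mul_mem (mul_mem hb' h4) (inv_mem hb')
      rwa [show b' * ((b * u * b⁻¹ * (b * n * b'))⁻¹ * (b * n * b'))⁻¹ * b'⁻¹ =
        n⁻¹ * u * n by group] at this
    rw [← QuotientGroup.out_eq' x]
    refine QuotientGroup.eq.2 ?_
    rw [mul_one, e]
    exact inv_mem (mul_mem (mul_mem hb hnB) hb')
  have h3 : Nat.card (MulAction.fixedPoints U (G ⧸ P.B)) = 1 := by
    rw [h2, Nat.card_eq_fintype_card]; simp
  rw [h3] at h1
  have := h1.symm.trans (Nat.modEq_zero_iff_dvd.2 hdvd)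
  rw [Nat.modEq_zero_iff_dvd] at this
  exact (Fact.out : p.Prime).not_dvd_one this

/-- `U` is a Sylow subgroup. -/
theorem Split.exists_sylow (hs : Split P p U) [Fact p.Prime] :
    ∃ Q : Sylow p G, (Q : Subgroup G) = U := by
  obtain ⟨Q, hQ⟩ := hs.pgroup.exists_le_sylow
  refine ⟨Q, (Subgroup.eq_of_le_of_card_ge hQ ?_).symm⟩
  obtain ⟨x, hx⟩ := Q.2.nonempty_fixed_point_of_prime_not_dvd_card (G ⧸ P.B) hs.index_mod
  have hq : ∀ q ∈ (Q : Subgroup G), x.out⁻¹ * q * x.out ∈ U := by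
    intro q hq
    have h1 : q • x = x := MulAction.mem_fixedPoints.1 hx ⟨q, hq⟩
    rw [← QuotientGroup.out_eq' x] at h1
    have h3 : ((q * x.out : G) : G ⧸ P.B) = (x.out : G ⧸ P.B) := h1
    obtain ⟨k, hk⟩ := Q.2 ⟨q, hq⟩
    have hk' : q ^ p ^ k = 1 := by simpa using congrArg Subtype.val hk
    refine hs.unip (k := k) ?_ (conj_pow_eq_one hk')
    have := inv_mem (QuotientGroup.eq.1 h3)
    rwa [show ((q * x.out)⁻¹ * x.out)⁻¹ = x.out⁻¹ * q * x.out by group] at this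
  refine Nat.card_le_card_of_injective (fun q : ↥(Q : Subgroup G) =>
    (⟨_, hq q q.2⟩ : ↥U)) fun a c e => ?_
  have := congrArg Subtype.val e
  exact Subtype.ext (by simpa using this)

theorem Split.card_pow (hs : Split P p U) [Fact p.Prime] :
    Nat.card U = p ^ (Nat.card G).factorization p := by
  obtain ⟨Q, hQ⟩ := hs.exists_sylow
  rw [← hQ]
  exact Sylow.card_eq_multiplicity Q

/-- The alternating sum vanishes off the elements of order prime to `p`. -/
theorem Split.vanish (hs : Split P p U) [Fact p.Prime] {g : G} (hg : p ∣ orderOf g) :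
    (stJ P (gens P) g : ℂ) = 0 := by
  haveI := Fintype.ofFinite G
  have hp : p.Prime := Fact.out
  refine CfsgLib.Char.vanish_of_defect_zero (isIrr_stJ (P := P)) hp
    (n := (Nat.card G).factorization p) (Nat.ordProj_dvd _ _)
    (Nat.pow_succ_factorization_not_dvd Nat.card_pos.ne' hp) (d := Nat.card U)
    (by simp [hs.stJ_one]) ?_ hg
  rw [hs.card_pow]

end CfsgLib.BNSteinberg
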