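/-
Steinberg's count of the unipotent elements of a split Tits system.
-/
import Mathlib
import Cfsg.Agent.Lib.BNSteinberg.Split

set_option autoImplicit false
set_option linter.unusedSectionVars false
set_option linter.style.haveILetI false

namespace CfsgLib.BNSteinberg

open CfsgLib.Chev.BN

variable {G : Type*} [Group G] [Finite G] {P : Cfsg.BNPair G} {p : ℕ} {U : Subgroup G}

/-- `g` fixes every chamber of the parabolic subgroup of `J`. -/
def AllFix (P : Cfsg.BNPair G) (J : Set G) (g : G) : Prop :=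
  ∀ h ∈ P.parabolic J, h⁻¹ * g * h ∈ P.B

/-- A `p`-element. -/
def PElt (p : ℕ) (g : G) : Prop := ∃ k : ℕ, g ^ p ^ k = 1

theorem LongJ.left {J : Set G} (hJ : J ⊆ P.S) {w : G} (hw : w ∈ NJ P J) (h : LongJ P J w) :
    ∀ s ∈ J, len P (s * w) < len P w := fun s hs =>
  lt_of_le_of_ne (h.le hJ hw (mul_mem (mem_NJ hs) hw)) (len_mul_ne (hJ hs) (NJ_le hJ hw))

theorem Split.fix_apartment (hs : Split P p U) {J : Set G} (hJ : J ⊆ P.S) {w : G}
    (hw : w ∈ NJ P J) (hlong : LongJ P J w) {u : G} (hu : u ∈ U) (h : w⁻¹ * u * w ∈ P.B) {v : G}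
    (hv : v ∈ NJ P J) : v⁻¹ * u * v ∈ P.B := by
  have hvN := NJ_le hJ hv
  have h1 := long_left hJ hw (hlong.left hJ hw) _ (inv_mem hv)
  rw [len_inv hvN] at h1
  have hvw : v⁻¹ * w ∈ P.N := mul_mem (inv_mem hvN) (NJ_le hJ hw)
  have := factor_unique hvN hvw (by rw [mul_inv_cancel_left]; omega) (mem_cell_self v)
    (mul_mem_cell (hs.le hu) (mem_cell_self v)) (mem_cell_self (v⁻¹ * w))
    (mem_cell_self (v⁻¹ * w))
    (by rwa [show (v * (v⁻¹ * w))⁻¹ * (u * v * (v⁻¹ * w)) = w⁻¹ * u * w by group])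
  rwa [← mul_assoc] at this

theorem Split.fix_panel (hs : Split P p U) {s : G} (hsS : s ∈ P.S) {u : G} (hu : u ∈ U)
    (h : s⁻¹ * u * s ∈ P.B) {b : G} (hb : b ∈ P.B) : (b * s)⁻¹ * u * (b * s) ∈ P.B := by
  obtain ⟨v, hv, t, ht, rfl⟩ := hs.decomp b hb
  have h1 := hs.rankone s hsS v⁻¹ (inv_mem hv) u hu h
  have h2 : s⁻¹ * t * s ∈ P.B := (conj_mem_H' (s_mem_N hsS) ht).1
  have := mul_mem (mul_mem (inv_mem h2) h1) h2
  rwa [show (s⁻¹ * t * s)⁻¹ * (s⁻¹ * (v⁻¹ * u * v⁻¹⁻¹) * s) * (s⁻¹ * t * s) =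
    (v * t * s)⁻¹ * u * (v * t * s) by group] at this

theorem Split.allFix_of_opposite (hs : Split P p U) {J : Set G} (hJ : J ⊆ P.S) {w : G}
    (hw : w ∈ NJ P J) (hlong : LongJ P J w) {u : G} (hu : u ∈ U) (h : w⁻¹ * u * w ∈ P.B) :
    AllFix P J u := by
  let Good : G → Prop := fun g => g⁻¹ * u * g ∈ U ∧ (g * w)⁻¹ * u * (g * w) ∈ P.B
  have step : ∀ g, Good g → ∀ s ∈ J, ∀ b ∈ P.B,
      ∃ g', g'⁻¹ * (g * b * s) ∈ P.B ∧ Good g' := by
    rintro g ⟨hgU, hgw⟩ s hsJ b hb
    have hap : ∀ v ∈ NJ P J, v⁻¹ * (g⁻¹ * u * g) * v ∈ P.B := fun v hv =>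
      hs.fix_apartment hJ hw hlong hgU
        (by rwa [show w⁻¹ * (g⁻¹ * u * g) * w = (g * w)⁻¹ * u * (g * w) by group]) hv
    have hpan := hs.fix_panel (hJ hsJ) hgU (hap s (mem_NJ hsJ)) hb
    obtain ⟨z, hz, hzc⟩ : ∃ z ∈ NJ P J, (b * s)⁻¹ * z ∈ cell P w := by
      rcases step_left_inv (hJ hsJ) (NJ_le hJ hw)
          (mul_mem_cell (inv_mem hb) (mem_cell_self w)) with hc | hc
      swap
      · exact ⟨w, hw, by rwa [mul_inv_rev, mul_assoc]⟩
      have hsw : s * w ∈ NJ P J := mul_mem (mem_NJ hsJ) hw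
      have hlt := hlong.left hJ hw s hsJ
      have hnl : ¬ LongJ P J (s * w) := fun h' => by
        have := h'.le hJ hsw hw; omega
      simp only [LongJ, not_forall] at hnl
      obtain ⟨t, htJ, ht⟩ := hnl
      have hup : len P (s * w * t) = len P (s * w) + 1 := by
        rcases len_right_up_or_down (hJ htJ) (NJ_le hJ hsw) with h1 | h1 <;> omega
      refine ⟨w * t, mul_mem hw (mem_NJ htJ), ?_⟩
      have hmem := cell_mul (NJ_le hJ hsw) (s_mem_N (hJ htJ)) (by rw [hup, len_s (hJ htJ)]) hc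
        (mem_cell_self t)
      have hdown : len P w = len P (s * w) + 1 := by
        rcases len_up_or_down (hJ hsJ) (NJ_le hJ hw) with h1 | h1 <;> omega
      rw [← (hlong.eqv hJ hw (mul_mem hsw (mem_NJ htJ)) (by omega)).cell_eq] at hmem
      rwa [show (b * s)⁻¹ * (w * t) = s⁻¹ * (b⁻¹ * w) * t by group]
    obtain ⟨c₁, hc₁, c₂, hc₂, e⟩ := mem_cell.1 hzc
    refine ⟨g * b * s * c₁, ?_, ?_, ?_⟩
    · rw [show (g * b * s * c₁)⁻¹ * (g * b * s) = c₁⁻¹ by group]
      exact inv_mem hc₁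
    · refine hs.conj_U hu ?_
      rw [show (g * b * s * c₁)⁻¹ * u * (g * b * s * c₁) =
        c₁⁻¹ * ((b * s)⁻¹ * (g⁻¹ * u * g) * (b * s)) * c₁ by group]
      exact mul_mem (mul_mem (inv_mem hc₁) hpan) hc₁
    · have e' : g * b * s * c₁ * w = g * z * c₂⁻¹ := by
        rw [show g * z * c₂⁻¹ = g * (b * s) * ((b * s)⁻¹ * z) * c₂⁻¹ by group, e]
        group
      rw [e', show (g * z * c₂⁻¹)⁻¹ * u * (g * z * c₂⁻¹) =
        c₂ * (z⁻¹ * (g⁻¹ * u * g) * z) * c₂⁻¹ by group]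
      exact mul_mem (mul_mem hc₂ (hap z hz)) (inv_mem hc₂)
  have key : ∀ l : List G, (∀ x ∈ l, x ∈ J) → ∀ g ∈ cell P l.prod,
      ∃ g', g'⁻¹ * g ∈ P.B ∧ Good g' := by
    intro l
    induction l using List.reverseRecOn with
    | nil =>
      intro _ g hg
      exact ⟨1, by simpa using cell_one_subset (by simpa using hg), by simpa using hu,
        by simpa using h⟩
    | append_singleton l t ih =>
      intro hlJ g hg
      rw [List.prod_append, List.prod_singleton] at hg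
      obtain ⟨b₁, hb₁, b₂, hb₂, rfl⟩ := mem_cell.1 hg
      obtain ⟨g₂, hg₂, hgood⟩ := ih (fun x hx => hlJ x (by simp [hx])) (b₁ * l.prod)
        (mul_mem_cell hb₁ (mem_cell_self _))
      obtain ⟨g', hg', hgood'⟩ := step g₂ hgood t (hlJ t (by simp)) _ hg₂
      refine ⟨g', ?_, hgood'⟩
      rw [show g'⁻¹ * (b₁ * (l.prod * t) * b₂) =
        g'⁻¹ * (g₂ * (g₂⁻¹ * (b₁ * l.prod)) * t) * b₂ by group]
      exact mul_mem hg' hb₂
  intro g hg
  obtain ⟨l, hl, hgl⟩ := (mem_parabolic_iff hJ).1 hg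
  obtain ⟨g', hg', hgU, -⟩ := key l hl g hgl
  rw [show g⁻¹ * u * g = (g'⁻¹ * g)⁻¹ * (g'⁻¹ * u * g') * (g'⁻¹ * g) by group]
  exact mul_mem (mul_mem (inv_mem hg') (hs.le hgU)) hg'

/-- The chambers of the longest cell of `J`. -/
def LongCell (P : Cfsg.BNPair G) (J : Set G) (x : G ⧸ P.B) : Prop :=
  x.out ∈ P.parabolic J ∧ LongJ P J (nC P x)

theorem longCell_cell {J : Set G} (hJ : J ⊆ P.S) {w : G} (hw : w ∈ NJ P J) (hlong : LongJ P J w)
    {x : G ⧸ P.B} (hx : LongCell P J x) : x.out ∈ cell P w := by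
  have h1 : nC P x ∈ NJ P J := by
    have := nC_mem_NJ hJ hx.1
    rwa [QuotientGroup.out_eq'] at this
  exact (LongJ.eqv' hJ h1 hx.2 hw hlong).cell_eq ▸ out_mem_cell x

theorem Split.allFix_of_fix (hs : Split P p U) {J : Set G} (hJ : J ⊆ P.S) {u : G} (hu : u ∈ U)
    {x : G ⧸ P.B} (hx : LongCell P J x) (hux : u • x = x) : AllFix P J u := by
  obtain ⟨w, hw, hlong⟩ := exists_long (P := P) hJ
  obtain ⟨a, ha, e⟩ := orbit_cell (NJ_le hJ hw) hs (longCell_cell hJ hw hlong hx)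
  rw [QuotientGroup.out_eq'] at e
  rw [← e] at hux
  have h1 : ((u * (a * w) : G) : G ⧸ P.B) = ((a * w : G) : G ⧸ P.B) := hux
  have h2 := inv_mem (QuotientGroup.eq.1 h1)
  rw [show ((u * (a * w))⁻¹ * (a * w))⁻¹ = w⁻¹ * (a⁻¹ * u * a) * w by group] at h2
  have hU : a⁻¹ * u * a ∈ U := by
    simpa using hs.normal _ (inv_mem (hs.le ha)) u hu
  intro g hg
  have := hs.allFix_of_opposite hJ hw hlong hU h2 (a⁻¹ * g)
    (mul_mem (B_le_parabolic J (inv_mem (hs.le ha))) hg)
  rwa [show (a⁻¹ * g)⁻¹ * (a⁻¹ * u * a) * (a⁻¹ * g) = g⁻¹ * u * g by group] at this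

theorem allFix_smul {J : Set G} {u : G} (h : AllFix P J u) {x : G ⧸ P.B}
    (hx : x.out ∈ P.parabolic J) : u • x = x := by
  rw [← QuotientGroup.out_eq' x]
  show ((u * x.out : G) : G ⧸ P.B) = (x.out : G ⧸ P.B)
  refine QuotientGroup.eq.2 ?_
  have := inv_mem (h _ hx)
  rwa [show (x.out⁻¹ * u * x.out)⁻¹ = (u * x.out)⁻¹ * x.out by group] at this

theorem fixCount_conj {J K : Set G} {k : G} (hk : k ∈ P.parabolic J) (hKJ : K ⊆ J) (g : G) :
    fixCount P J K (k * g * k⁻¹) = fixCount P J K g := by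
  have hle := parabolic_mono (P := P) hKJ
  have hmem : ∀ (k : G), k ∈ P.parabolic J → ∀ y : G ⧸ P.parabolic K, y.out ∈ P.parabolic J →
      (k • y).out ∈ P.parabolic J := by
    intro k hk y hy
    have e : k • y = ((k * y.out : G) : G ⧸ P.parabolic K) := by
      conv_lhs => rw [← QuotientGroup.out_eq' y]
      rfl
    rw [e]
    exact (out_mk_mem hle _).2 (mul_mem hk hy)
  simp only [fixCount, Nat.cast_inj]
  refine Nat.card_congr
    { toFun := fun y => ⟨k⁻¹ • y.1, hmem _ (inv_mem hk) _ y.2.1, ?_⟩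
      invFun := fun y => ⟨k • y.1, hmem _ hk _ y.2.1, ?_⟩
      left_inv := fun y => Subtype.ext (smul_inv_smul k y.1)
      right_inv := fun y => Subtype.ext (inv_smul_smul k y.1) }
  · have h := y.2.2
    rw [mul_smul, mul_smul] at h
    conv_rhs => rw [← h, inv_smul_smul]
  · rw [mul_smul, mul_smul, inv_smul_smul, y.2.2]

theorem stJ_conj {J : Finset G} {k : G} (hk : k ∈ P.parabolic (J : Set G)) (g : G) :
    stJ P J (k * g * k⁻¹) = stJ P J g :=
  Finset.sum_congr rfl fun K hK => by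
    rw [fixCount_conj hk (by exact_mod_cast Finset.mem_powerset.1 hK)]

theorem Split.exists_conj (hs : Split P p U) [Fact p.Prime] {J : Set G} {g : G}
    (hg : g ∈ P.parabolic J) (hp : PElt p g) :
    ∃ k ∈ P.parabolic J, k⁻¹ * g * k ∈ U := by
  set M := P.parabolic J with hM
  have hUM : U ≤ M := hs.le.trans (B_le_parabolic J)
  have hUp : IsPGroup p (U.subgroupOf M) :=
    hs.pgroup.of_equiv (Subgroup.subgroupOfEquivOfLe hUM).symm
  obtain ⟨R', hR'⟩ := hUp.exists_le_sylow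
  obtain ⟨k₀, hk₀⟩ := hp
  have hgp : IsPGroup p (Subgroup.zpowers (⟨g, hg⟩ : ↥M)) := by
    rintro ⟨x, hx⟩
    obtain ⟨i, rfl⟩ := Subgroup.mem_zpowers_iff.1 hx
    refine ⟨k₀, Subtype.ext (Subtype.ext ?_)⟩
    simp only [SubgroupClass.coe_pow, SubgroupClass.coe_zpow, OneMemClass.coe_one]
    rw [← zpow_natCast, ← zpow_mul, mul_comm, zpow_mul, zpow_natCast, hk₀, one_zpow]
  obtain ⟨R, hR⟩ := hgp.exists_le_sylow
  have hcard : Nat.card (R' : Subgroup ↥M) ≤ Nat.card (U.subgroupOf M) := by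
    obtain ⟨Q, hQ⟩ := (R'.2.map M.subtype).exists_le_sylow
    rw [Nat.card_congr (Subgroup.subgroupOfEquivOfLe hUM).toEquiv, hs.card_pow,
      ← Sylow.card_eq_multiplicity Q, ← Subgroup.card_map_of_injective M.subtype_injective]
    exact Subgroup.card_le_of_le hQ
  have heq : U.subgroupOf M = (R' : Subgroup ↥M) := Subgroup.eq_of_le_of_card_ge hR' hcard
  obtain ⟨k, hk⟩ := MulAction.exists_smul_eq (↥M) R' R
  have hmem : (⟨g, hg⟩ : ↥M) ∈ (R : Subgroup ↥M) := hR (Subgroup.mem_zpowers _)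
  rw [← hk, Sylow.coe_subgroup_smul, Subgroup.mem_pointwise_smul_iff_inv_smul_mem, ← heq] at hmem
  refine ⟨(k : G), k.2, ?_⟩
  have h2 : (((MulAut.conj k)⁻¹ • (⟨g, hg⟩ : ↥M) : ↥M) : G) ∈ U := hmem
  simpa [MulAut.conj_inv_apply] using h2

open _root_.Classical in
theorem Split.stJ_pelt (hs : Split P p U) [Fact p.Prime] {J : Finset G}
    (hJ : (J : Set G) ⊆ P.S) {g : G} (hg : g ∈ P.parabolic (J : Set G)) (hp : PElt p g) :
    stJ P J g = if AllFix P (J : Set G) g
      then (Nat.card {x : G ⧸ P.B // LongCell P (J : Set G) x} : ℤ) else 0 := by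
  obtain ⟨k, hk, hu⟩ := hs.exists_conj hg hp
  have e : stJ P J g = stJ P J (k⁻¹ * g * k) := by
    conv_lhs => rw [show g = k * (k⁻¹ * g * k) * k⁻¹ by group]
    exact stJ_conj hk _
  have hiff : AllFix P (J : Set G) g ↔ AllFix P (J : Set G) (k⁻¹ * g * k) := by
    constructor
    · intro h x hx
      rw [show x⁻¹ * (k⁻¹ * g * k) * x = (k * x)⁻¹ * g * (k * x) by group]
      exact h _ (mul_mem hk hx)
    · intro h x hx
      rw [show x⁻¹ * g * x = (k⁻¹ * x)⁻¹ * (k⁻¹ * g * k) * (k⁻¹ * x) by group]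
      exact h _ (mul_mem (inv_mem hk) hx)
  rw [e, stJ_borel hJ (hs.le hu)]
  by_cases h : AllFix P (J : Set G) g
  · rw [if_pos h]
    congr 1
    exact Nat.card_congr (Equiv.subtypeEquivRight fun x =>
      ⟨fun hx => hx.1, fun hx => ⟨hx, allFix_smul (hiff.1 h) hx.1⟩⟩)
  · rw [if_neg h]
    haveI : IsEmpty {x : G ⧸ P.B //
        (x.out ∈ P.parabolic (J : Set G) ∧ LongJ P J (nC P x)) ∧ (k⁻¹ * g * k) • x = x} :=
      ⟨fun x => h (hiff.2 (hs.allFix_of_fix hJ hu x.2.1 x.2.2))⟩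
    simp

/-- The chambers of the longest cell and their common stabilizer. -/
theorem Split.card_long_mul (hs : Split P p U) {J : Set G} (hJ : J ⊆ P.S) :
    Nat.card {x : G ⧸ P.B // LongCell P J x} * Nat.card {u : G // u ∈ U ∧ AllFix P J u} =
      Nat.card U := by
  obtain ⟨w, hw, hlong⟩ := exists_long (P := P) hJ
  have hwN := NJ_le hJ hw
  let f : ↥U → {x : G ⧸ P.B // LongCell P J x} := fun u => ⟨(((u : G) * w : G) : G ⧸ P.B),
    (out_mk_mem (B_le_parabolic J) _).2 (mul_mem (B_le_parabolic J (hs.le u.2))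
      ((mem_parabolic_N hJ hwN).2 hw)),
    longJ_congr hJ (nC_eqv hwN (mul_mem_cell (hs.le u.2) (mem_cell_self w))).symm hlong⟩
  symm
  rw [← Nat.card_prod]
  have hfib : ∀ x, Nonempty ({u : ↥U // f u = x} ≃ {u : G // u ∈ U ∧ AllFix P J u}) := by
    rintro ⟨x, hx⟩
    obtain ⟨a, ha, e⟩ := orbit_cell hwN hs (longCell_cell hJ hw hlong hx)
    rw [QuotientGroup.out_eq'] at e
    refine ⟨{ toFun := fun u => ⟨a⁻¹ * (u.1 : G), mul_mem (inv_mem ha) u.1.2, ?_⟩
              invFun := fun r => ⟨⟨a * r.1, mul_mem ha r.2.1⟩, ?_⟩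
              left_inv := fun u => Subtype.ext (Subtype.ext (mul_inv_cancel_left a _))
              right_inv := fun r => Subtype.ext (inv_mul_cancel_left a _) }⟩
    · have h1 : (((u.1 : G) * w : G) : G ⧸ P.B) = ((a * w : G) : G ⧸ P.B) :=
        (congrArg Subtype.val u.2).trans e.symm
      refine hs.allFix_of_opposite hJ hw hlong (mul_mem (inv_mem ha) u.1.2) ?_
      have := inv_mem (QuotientGroup.eq.1 h1)
      rwa [show (((u.1 : G) * w)⁻¹ * (a * w))⁻¹ = w⁻¹ * (a⁻¹ * (u.1 : G)) * w by group] at this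
    · refine Subtype.ext ?_
      show ((a * r.1 * w : G) : G ⧸ P.B) = x
      rw [← e]
      refine QuotientGroup.eq.2 ?_
      rw [show (a * r.1 * w)⁻¹ * (a * w) = (w⁻¹ * r.1 * w)⁻¹ by group]
      exact inv_mem (r.2.2 w ((mem_parabolic_N hJ hwN).2 hw))
  exact Nat.card_congr (((Equiv.sigmaFiberEquiv f).symm.trans
    (Equiv.sigmaCongrRight fun x => (hfib x).some)).trans (Equiv.sigmaEquivProd _ _))

/-- The number of `p`-elements of the parabolic subgroup of `J`. -/
noncomputable def uCount (P : Cfsg.BNPair G) (p : ℕ) (J : Set G) : ℕ :=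
  Nat.card {g : G // g ∈ P.parabolic J ∧ PElt p g}

/-- The number of cosets of `P_K` in `P_J`. -/
noncomputable def idxCount (P : Cfsg.BNPair G) (J K : Set G) : ℕ :=
  Nat.card {y : G ⧸ P.parabolic K // y.out ∈ P.parabolic J}

theorem pelt_conj {k g : G} (h : PElt p g) : PElt p (k⁻¹ * g * k) :=
  ⟨h.choose, conj_pow_eq_one h.choose_spec⟩

theorem card_incidence {J K : Set G} (hKJ : K ⊆ J) :
    Nat.card (Σ g : {g : G // g ∈ P.parabolic J ∧ PElt p g},
      {y : G ⧸ P.parabolic K // y.out ∈ P.parabolic J ∧ (g : G) • y = y}) =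
        idxCount P J K * uCount P p K := by
  rw [idxCount, uCount, ← Nat.card_prod]
  have hfix : ∀ (g : G) (y : G ⧸ P.parabolic K),
      g • y = y ↔ y.out⁻¹ * g * y.out ∈ P.parabolic K := by
    intro g y
    conv_lhs => rw [← QuotientGroup.out_eq' y]
    show ((g * y.out : G) : G ⧸ P.parabolic K) = (y.out : G ⧸ P.parabolic K) ↔ _
    rw [QuotientGroup.eq, ← inv_mem_iff,
      show ((g * y.out)⁻¹ * y.out)⁻¹ = y.out⁻¹ * g * y.out by group]
  refine Nat.card_congr
    { toFun := fun z => (⟨z.2.1, z.2.2.1⟩, ⟨z.2.1.out⁻¹ * z.1.1 * z.2.1.out,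
        (hfix _ _).1 z.2.2.2, pelt_conj z.1.2.2⟩)
      invFun := fun z => ⟨⟨z.1.1.out * z.2.1 * z.1.1.out⁻¹, mul_mem (mul_mem z.1.2
          (parabolic_mono hKJ z.2.2.1)) (inv_mem z.1.2), by
            simpa using pelt_conj (k := z.1.1.out⁻¹) z.2.2.2⟩, ⟨z.1.1, z.1.2, ?_⟩⟩
      left_inv := ?_
      right_inv := ?_ }
  · rw [hfix]
    convert z.2.2.1 using 1
    group
  · rintro ⟨⟨g, hg⟩, ⟨y, hy⟩⟩
    refine Sigma.subtype_ext (Subtype.ext ?_) rfl
    show y.out * (y.out⁻¹ * g * y.out) * y.out⁻¹ = g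
    group
  · rintro ⟨⟨y, hy⟩, ⟨h, hh⟩⟩
    refine Prod.ext rfl (Subtype.ext ?_)
    show y.out⁻¹ * (y.out * h * y.out⁻¹) * y.out = h
    group

open _root_.Classical in
theorem Split.sum_stJ (hs : Split P p U) [Fact p.Prime] {J : Finset G}
    (hJ : (J : Set G) ⊆ P.S) :
    ∑ K ∈ J.powerset, (-1 : ℤ) ^ K.card *
      ((idxCount P (J : Set G) K : ℤ) * uCount P p (K : Set G)) = Nat.card U := by
  haveI : Fintype {g : G // g ∈ P.parabolic (J : Set G) ∧ PElt p g} := Fintype.ofFinite _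
  have h1 : ∑ g : {g : G // g ∈ P.parabolic (J : Set G) ∧ PElt p g}, stJ P J (g : G) =
      Nat.card U := by
    rw [Finset.sum_congr rfl fun g _ => hs.stJ_pelt hJ g.2.1 g.2.2, ← Finset.sum_filter,
      Finset.sum_const, nsmul_eq_mul, ← hs.card_long_mul hJ, Nat.cast_mul, mul_comm]
    congr 2
    rw [← Fintype.card_subtype, ← Nat.card_eq_fintype_card]
    exact Nat.card_congr
      { toFun := fun g => ⟨g.1.1, hs.unip (b := g.1.1) (by
            simpa using g.2 1 (one_mem _)) g.1.2.2.choose_spec, g.2⟩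
        invFun := fun u => ⟨⟨u.1, B_le_parabolic _ (hs.le u.2.1), by
            obtain ⟨k, hk⟩ := hs.pgroup ⟨u.1, u.2.1⟩
            exact ⟨k, by simpa using congrArg Subtype.val hk⟩⟩, u.2.2⟩
        left_inv := fun g => rfl
        right_inv := fun u => rfl }
  rw [← h1]
  simp only [stJ]
  rw [Finset.sum_comm (γ := {g : G // g ∈ P.parabolic (J : Set G) ∧ PElt p g})]
  refine Finset.sum_congr rfl fun K hK => ?_
  rw [← Finset.mul_sum, ← Nat.cast_mul,
    ← card_incidence (by exact_mod_cast Finset.mem_powerset.1 hK), Nat.card_sigma, Nat.cast_sum]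
  rfl

open _root_.Classical in
theorem Split.euler (hs : Split P p U) {J : Finset G} (hJ : (J : Set G) ⊆ P.S) :
    ∑ K ∈ J.powerset, (-1 : ℤ) ^ K.card * ((idxCount P (J : Set G) K : ℤ) *
      Nat.card {x : G ⧸ P.B // LongCell P (K : Set G) x}) = 1 := by
  haveI : Fintype (G ⧸ P.B) := Fintype.ofFinite _
  have h1 : ∀ K ∈ J.powerset,
      idxCount P (J : Set G) K * Nat.card {x : G ⧸ P.B // LongCell P (K : Set G) x} =
        Nat.card {x : G ⧸ P.B // x.out ∈ P.parabolic (J : Set G) ∧ LongJ P (K : Set G) (nC P x)} := by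
    intro K hK
    have hKJ : (K : Set G) ⊆ J := by exact_mod_cast Finset.mem_powerset.1 hK
    have hKS := hKJ.trans hJ
    have hle := parabolic_mono (P := P) hKJ
    rw [idxCount, ← Nat.card_prod]
    let f : {x : G ⧸ P.B // x.out ∈ P.parabolic (J : Set G) ∧ LongJ P (K : Set G) (nC P x)} →
        {y : G ⧸ P.parabolic (K : Set G) // y.out ∈ P.parabolic (J : Set G)} :=
      fun x => ⟨(x.1.out : G ⧸ P.parabolic (K : Set G)), (out_mk_mem hle _).2 x.2.1⟩
    have hfib : ∀ y, Nonempty ({x // f x = y} ≃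
        {x : G ⧸ P.B // LongCell P (K : Set G) x}) := by
      rintro ⟨y, hy⟩
      obtain ⟨g, w, hw, hmin, hg, hin⟩ := exists_section hKS y.out
      have hgJ : g ∈ P.parabolic (J : Set G) := by
        have := mul_mem hy (inv_mem (hle hin))
        rwa [show y.out * (g⁻¹ * y.out)⁻¹ = g by group] at this
      have key : ∀ h ∈ P.parabolic (K : Set G),
          LongJ P (K : Set G) (nC P ((g * h : G) : G ⧸ P.B)) ↔
            LongJ P (K : Set G) (nC P (h : G ⧸ P.B)) := by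
        intro h hh
        obtain ⟨v, hv, hc⟩ := parabolic_cell hKS hh
        have hvN := NJ_le hKS hv
        have e1 := nC_eqv (mul_mem hw hvN) (cell_mul hw hvN (hmin.add hKS hw hv) hg hc)
        have e2 := nC_eqv hvN hc
        exact ⟨fun h' => longJ_congr hKS e2.symm
            ((hmin.longJ_iff hKS hw hv).1 (longJ_congr hKS e1 h')),
          fun h' => longJ_congr hKS e1.symm
            ((hmin.longJ_iff hKS hw hv).2 (longJ_congr hKS e2 h'))⟩
      have hsm : ∀ z : G ⧸ P.B, g • z = ((g * z.out : G) : G ⧸ P.B) := fun z => by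
        conv_lhs => rw [← QuotientGroup.out_eq' z]
        rfl
      have hy2 : ∀ (z : G ⧸ P.B) (hz : LongCell P (K : Set G) z), f ⟨g • z, by
          rw [hsm]
          exact ⟨(out_mk_mem (B_le_parabolic _) _).2 (mul_mem hgJ (hle hz.1)),
            (key _ hz.1).2 (by rw [QuotientGroup.out_eq']; exact hz.2)⟩⟩ = ⟨y, hy⟩ := by
        intro z hz
        refine Subtype.ext ?_
        show ((g • z).out : G ⧸ P.parabolic (K : Set G)) = y
        rw [hsm]
        obtain ⟨c, hc⟩ := QuotientGroup.mk_out_eq_mul P.B (g * z.out)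
        rw [hc]
        conv_rhs => rw [← QuotientGroup.out_eq' y]
        refine QuotientGroup.eq.2 ?_
        rw [show (g * z.out * (c : G))⁻¹ * y.out = (z.out * c)⁻¹ * (g⁻¹ * y.out) by group]
        exact mul_mem (inv_mem (mul_mem hz.1 (B_le_parabolic _ c.2))) hin
      refine ⟨(Equiv.ofBijective (fun z : {x : G ⧸ P.B // LongCell P (K : Set G) x} =>
        (⟨_, hy2 z.1 z.2⟩ : {x // f x = ⟨y, hy⟩})) ⟨?_, ?_⟩).symm⟩
      · intro z z' e
        exact Subtype.ext (MulAction.injective g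
          (congrArg (fun t => ((t : {x // f x = ⟨y, hy⟩}).1.1)) e))
      · rintro ⟨⟨x, hxJ, hxL⟩, hxy⟩
        have h0 : ((x.out : G) : G ⧸ P.parabolic (K : Set G)) = y := congrArg Subtype.val hxy
        have hin2 : g⁻¹ * x.out ∈ P.parabolic (K : Set G) := by
          rw [← QuotientGroup.out_eq' y] at h0
          rw [show g⁻¹ * x.out = g⁻¹ * y.out * (x.out⁻¹ * y.out)⁻¹ by group]
          exact mul_mem hin (inv_mem (QuotientGroup.eq.1 h0))
        refine ⟨⟨((g⁻¹ * x.out : G) : G ⧸ P.B), (out_mk_mem (B_le_parabolic _) _).2 hin2, ?_⟩,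
          Subtype.ext (Subtype.ext ?_)⟩
        · rw [← key _ hin2, mul_inv_cancel_left, QuotientGroup.out_eq']
          exact hxL
        · show g • ((g⁻¹ * x.out : G) : G ⧸ P.B) = x
          show ((g * (g⁻¹ * x.out) : G) : G ⧸ P.B) = x
          rw [mul_inv_cancel_left, QuotientGroup.out_eq']
    exact (Nat.card_congr (((Equiv.sigmaFiberEquiv f).symm.trans
      (Equiv.sigmaCongrRight fun y => (hfib y).some)).trans (Equiv.sigmaEquivProd _ _))).symm
  rw [Finset.sum_congr rfl fun K hK => by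
    rw [← Nat.cast_mul, h1 K hK, natCard_subtype_int, Finset.mul_sum], Finset.sum_comm,
    Finset.sum_eq_single ((1 : G) : G ⧸ P.B)]
  · set x₁ : G ⧸ P.B := ((1 : G) : G ⧸ P.B) with hx₁
    have hx1 : x₁.out ∈ P.parabolic (J : Set G) :=
      (out_mk_mem (B_le_parabolic _) _).2 (one_mem _)
    rw [Finset.sum_eq_single (∅ : Finset G)]
    · simp [hx1, LongJ]
    · intro K hK hne
      obtain ⟨s, hs'⟩ := Finset.nonempty_iff_ne_empty.2 hne
      rw [if_neg, mul_zero]
      rintro ⟨-, hL⟩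
      have hsS : s ∈ P.S := hJ (Finset.mem_powerset.1 hK hs')
      have h0 : len P (nC P x₁) = 0 := by
        rw [len_congr (nC_eqv (one_mem P.N) (mem_cell_self 1))]
        exact (len_eq_zero_iff (one_mem _)).2 (one_mem _)
      exact absurd (hL s hs') (by omega)
    · intro h; exact absurd (Finset.empty_mem_powerset _) h
  · intro x _ hne
    by_cases hxJ : x.out ∈ P.parabolic (J : Set G)
    swap
    · exact Finset.sum_eq_zero fun K _ => by rw [if_neg fun h => hxJ h.1, mul_zero]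
    set A := J.filter fun s => len P (nC P x * s) < len P (nC P x) with hA
    rw [Finset.sum_congr rfl (g := fun K => if K ⊆ A then (-1 : ℤ) ^ K.card else 0),
      sum_subset_filter J A (Finset.filter_subset _ _), if_neg]
    · intro h0
      rw [hA, Finset.filter_eq_empty_iff] at h0
      simp only [not_lt] at h0
      have hn : nC P x ∈ NJ P (J : Set G) := by
        have := nC_mem_NJ hJ hxJ
        rwa [QuotientGroup.out_eq'] at this
      have hmin : RMin P (J : Set G) (nC P x) := (rmin_iff hJ (nC_mem x)).2 fun s hs => h0 hs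
      have hle := hmin _ (inv_mem hn)
      rw [mul_inv_cancel, (len_eq_zero_iff (one_mem P.N)).2 (one_mem _)] at hle
      have hnB := (len_eq_zero_iff (nC_mem x)).1 (Nat.le_zero.1 hle)
      obtain ⟨b, hb, b', hb', e⟩ := mem_cell.1 (out_mem_cell x)
      refine hne ?_
      rw [← QuotientGroup.out_eq' x]
      refine QuotientGroup.eq.2 ?_
      rw [mul_one, e]
      exact inv_mem (mul_mem (mul_mem hb hnB) hb')
    · intro K hK
      have hKJ := Finset.mem_powerset.1 hK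
      rw [mul_ite, mul_one, mul_zero]
      refine if_congr ?_ rfl rfl
      rw [hA]
      exact ⟨fun h s hs => Finset.mem_filter.2 ⟨hKJ hs, h.2 s hs⟩,
        fun h => ⟨hxJ, fun s hs => (Finset.mem_filter.1 (h hs)).2⟩⟩
  · simp

theorem idxCount_self {J : Set G} : idxCount P J J = 1 := by
  refine Nat.card_eq_one_iff_unique.2 ⟨⟨fun a b => ?_⟩,
    ⟨⟨((1 : G) : G ⧸ P.parabolic J), (out_mk_mem le_rfl _).2 (one_mem _)⟩⟩⟩
  refine Subtype.ext ?_
  rw [← QuotientGroup.out_eq' a.1, ← QuotientGroup.out_eq' b.1]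
  exact QuotientGroup.eq.2 (mul_mem (inv_mem a.2) b.2)

open _root_.Classical in
theorem Split.uCount_eq (hs : Split P p U) [Fact p.Prime] :
    ∀ J : Finset G, (J : Set G) ⊆ P.S → (uCount P p (J : Set G) : ℤ) =
      Nat.card U * Nat.card {x : G ⧸ P.B // LongCell P (J : Set G) x} := by
  intro J
  induction J using Finset.strongInduction with
  | _ J ih =>
    intro hJ
    have h1 := hs.sum_stJ hJ
    have h2 := congrArg (fun z : ℤ => (Nat.card U : ℤ) * z) (hs.euler hJ)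
    simp only [mul_one, Finset.mul_sum] at h2
    rw [← h2, ← Finset.add_sum_erase _ _ (Finset.mem_powerset_self J),
      ← Finset.add_sum_erase _ _ (Finset.mem_powerset_self J)] at h1
    have h3 : ∀ K ∈ J.powerset.erase J, (-1 : ℤ) ^ K.card *
        ((idxCount P (J : Set G) K : ℤ) * uCount P p (K : Set G)) =
      (Nat.card U : ℤ) * ((-1 : ℤ) ^ K.card * ((idxCount P (J : Set G) K : ℤ) *
        Nat.card {x : G ⧸ P.B // LongCell P (K : Set G) x})) := by
      intro K hK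
      obtain ⟨hne, hK'⟩ := Finset.mem_erase.1 hK
      have hKJ := Finset.mem_powerset.1 hK'
      rw [ih K (Finset.ssubset_iff_subset_ne.2 ⟨hKJ, hne⟩) ((Finset.coe_subset.2 hKJ).trans hJ)]
      ring
    rw [Finset.sum_congr rfl h3, add_left_inj, idxCount_self, Nat.cast_one, one_mul, one_mul,
      mul_left_comm] at h1
    exact mul_left_cancel₀ (pow_ne_zero _ (by norm_num)) h1

/-- Steinberg's count: the `p`-elements number `|U|²`. -/
theorem Split.card_pelt (hs : Split P p U) [Fact p.Prime] :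
    Nat.card {g : G // ∃ k : ℕ, orderOf g = p ^ k} = Nat.card U ^ 2 := by
  have h := hs.uCount_eq (gens P) (by rw [coe_gens])
  rw [coe_gens] at h
  have h' : uCount P p P.S =
      Nat.card U * Nat.card {x : G ⧸ P.B // LongCell P P.S x} := by exact_mod_cast h
  have e : Nat.card {x : G ⧸ P.B // LongCell P P.S x} = Nat.card U := by
    rw [← hs.card_long]
    exact Nat.card_congr (Equiv.subtypeEquivRight fun x => by simp [LongCell, parabolic_S])
  rw [e] at h'
  rw [pow_two, ← h', uCount]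
  refine Nat.card_congr (Equiv.subtypeEquivRight fun g => ?_)
  rw [parabolic_S]
  refine ⟨fun ⟨k, hk⟩ => ⟨Subgroup.mem_top _, k, hk ▸ pow_orderOf_eq_one g⟩, fun ⟨_, k, hk⟩ => ?_⟩
  obtain ⟨j, -, hj⟩ := (Nat.dvd_prime_pow Fact.out).1 (orderOf_dvd_of_pow_eq_one hk)
  exact ⟨j, hj⟩

end CfsgLib.BNSteinberg
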