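/-
The split Tits system of a Chevalley group over a finite field.
-/
import Mathlib
import Cfsg.Prelude.Def_ParabolicCharacters
import Cfsg.Agent.Lib.Chev.Struct
import Cfsg.Agent.Lib.BNSteinberg.Count

set_option autoImplicit false
set_option linter.unusedSectionVars false
set_option linter.style.haveILetI false

namespace CfsgLib.BNSteinberg

open Cfsg.Lie CfsgLib.Chev

universe v

variable {D : ChevalleyDatum} {co : ℕ → ℕ → ℤ} {K : Type v} [Field K]

theorem dU_pow (χ : ℕ → Kˣ) (m : ℕ) : dU D χ ^ m = dU D (fun r => χ r ^ m) := by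
  induction m with
  | zero => simp [← dU_one]
  | succ m ih => rw [pow_succ, ih, dU_mul]; simp [pow_succ]

theorem dU_eq_one {χ : ℕ → Kˣ} (h : dU D χ = 1) {r : ℕ} (hr : r < D.nroots) : χ r = 1 := by
  have := congrArg (fun g : GL D.Idx K =>
    (g : Matrix D.Idx D.Idx K) (Sum.inr ⟨r, hr⟩) (Sum.inr ⟨r, hr⟩)) h
  exact Units.ext (by simpa [dU_val, diagC] using this)

variable (hF : Facts D co) (hC : CommF.{v} D)
include hF hC

/-- The distinguished generators of the Chevalley group. -/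
noncomputable def el (j : ℕ) : ↥(D.group K) :=
  if h : j < D.rank then ⟨nS D K ⟨j, h⟩, hF.monomial_le_group (hF.nS_mem ⟨j, h⟩)⟩ else 1

theorem el_val {j : ℕ} (hj : j < D.rank) :
    ((el hF j : ↥(D.group K)) : GL D.Idx K) = nS D K ⟨j, hj⟩ := by
  simp [el, hj]

theorem el_injOn : Set.InjOn (el (K := K) hF) {j | j < D.rank} := by
  intro i hi j hj e
  have e' := congrArg Subtype.val e
  rw [el_val hF hC hi, el_val hF hC hj] at e'
  have h2 := hF.permAct_nS (F := K) ⟨j, hj⟩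
  rw [← e'] at h2
  have h := hF.permAct_unique (hF.permAct_nS (F := K) ⟨i, hi⟩) h2
  exact congrArg Fin.val (hF.sP_injective h)

theorem S_eq : (hF.bnPair hC (K := K)).S = el hF '' {j | j < D.rank} := by
  ext n
  constructor
  · rintro ⟨i, hi, hn⟩
    rw [← hF.nU_val (hF.simple_lt' hi), Units.val_inj] at hn
    exact ⟨i, hi, Subtype.ext ((el_val hF hC hi).trans hn.symm)⟩
  · rintro ⟨i, hi, rfl⟩
    refine ⟨i, hi, ?_⟩
    rw [el_val hF hC hi]
    exact hF.nU_val (hF.simple_lt' hi) 1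

theorem torus_eq : (hF.bnPair hC (K := K)).B ⊓ (hF.bnPair hC (K := K)).N =
    (D.diagonalSubgroup K).subgroupOf (D.group K) := by
  rw [← hF.borel_inf_monomial]
  rfl

/-- The split structure. -/
theorem split (p : ℕ) [Fact p.Prime] [CharP K p] [Finite K] :
    Split (hF.bnPair hC (K := K)) p ((D.posUnipotent K).subgroupOf (D.group K)) := by
  have hU : D.posUnipotent K = rootClosure D K (D.nroots / 2 ≤ ·) := hF.posUnipotent_eq
  refine ⟨?_, ?_, ?_, ?_, ?_, ?_, ?_⟩
  · exact fun g hg => (le_sup_left : D.posUnipotent K ≤ D.borelSubgroup K) hg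
  · intro b hb u hu
    have hn : D.borelSubgroup K ≤ Subgroup.normalizer (D.posUnipotent K : Set (GL D.Idx K)) := by
      rw [hF.borel_eq, hU]
      exact sup_le Subgroup.le_normalizer (hF.diagonal_le_normalizer _)
    exact (Subgroup.mem_normalizer_iff.1 (hn hb) _).1 hu
  · haveI := Fintype.ofFinite K
    obtain ⟨f, hp, hcard⟩ := FiniteField.card K p
    have hle : D.posUnipotent K ≤ D.group K := hU ▸ hF.pos_le_group
    refine IsPGroup.of_card (n := f * (D.nroots / 2)) ?_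
    rw [Nat.card_congr (Subgroup.subgroupOfEquivOfLe hle).toEquiv, hU,
      ← Nat.card_congr (Equiv.ofBijective _ (hF.bijective_ordered hC)),
      Nat.card_eq_fintype_card, Fintype.card_fun, Fintype.card_fin, hcard, ← pow_mul]
  · intro b hb
    obtain ⟨u, hu, h, hh, e⟩ := hF.mem_borel_iff.1 (hb : (b : GL D.Idx K) ∈ D.borelSubgroup K)
    refine ⟨⟨u, hF.pos_le_group hu⟩, (hU.symm ▸ hu : u ∈ D.posUnipotent K),
      ⟨h, hF.diagonal_le_group hh⟩, ?_, Subtype.ext e⟩
    rw [torus_eq hF hC]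
    exact hh
  · intro h hh k hk
    rw [torus_eq hF hC] at hh
    obtain ⟨c, hc'⟩ := hF.mem_diagonal_iff.1 (hh : (h : GL D.Idx K) ∈ D.diagonalSubgroup K)
    have hc : (h : GL D.Idx K) = hT D c := hc'
    have hk' : (h : GL D.Idx K) ^ p ^ k = 1 := by
      simpa using congrArg Subtype.val hk
    rw [hc, hT, dU_pow] at hk'
    refine Subtype.ext ?_
    rw [hc, hT, OneMemClass.coe_one, ← dU_one]
    refine dU_congr fun r hr => Units.ext ?_
    have h1 := congrArg Units.val (dU_eq_one hk' hr)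
    simp only [Units.val_pow_eq_pow_val, Units.val_one] at h1
    have h2 := sub_pow_char_pow (p := p) (n := k)
      (((∏ i ∈ Finset.range D.rank, c i ^ D.cartan i r : Kˣ) : K)) 1
    rw [one_pow, h1, sub_self] at h2
    exact sub_eq_zero.1 (pow_eq_zero_iff (pow_ne_zero _ (Fact.out : p.Prime).ne_zero) |>.1 h2)
  · intro s hs u hu d hd hds
    rw [S_eq hF hC] at hs
    obtain ⟨i, hi, rfl⟩ := hs
    have hu' : (u : GL D.Idx K) ∈ rootClosure D K (D.nroots / 2 ≤ ·) := hU ▸ hu
    have hd' : (d : GL D.Idx K) ∈ rootClosure D K (D.nroots / 2 ≤ ·) := hU ▸ hd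
    have hds' : ((el hF i : ↥(D.group K)) : GL D.Idx K)⁻¹ * d *
        ((el hF i : ↥(D.group K)) : GL D.Idx K) ∈ D.borelSubgroup K := hds
    show ((el hF i : ↥(D.group K)) : GL D.Idx K)⁻¹ * (u * d * (u : GL D.Idx K)⁻¹) *
      ((el hF i : ↥(D.group K)) : GL D.Idx K) ∈ D.borelSubgroup K
    rw [el_val hF hC hi] at hds' ⊢
    have hp := hF.simple_lt' hi
    have hact : PermAct (nS D K ⟨i, hi⟩)⁻¹ (sP D ⟨i, hi⟩) := by
      have := hF.permAct_inv (hF.nS_mem (F := K) ⟨i, hi⟩) (hF.permAct_nS ⟨i, hi⟩)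
      rwa [inv_eq_of_mul_eq_one_right (hF.sP_sq ⟨i, hi⟩)] at this
    have hin : ∀ x ∈ rootClosure D K (fun r => D.nroots / 2 ≤ r ∧ r ≠ D.simple i),
        (nS D K ⟨i, hi⟩)⁻¹ * x * nS D K ⟨i, hi⟩ ∈ D.borelSubgroup K := by
      intro x hx
      have := hF.conj_rootClosure hact (Q := (D.nroots / 2 ≤ ·))
        (fun r hr => (hF.sP_pos ⟨i, hi⟩ hr.1 hr.2).1) hx
      rw [inv_inv] at this
      exact hF.pos_le_borel this
    obtain ⟨d₀, hd₀, a, hda⟩ := hF.pos_decomp hC ⟨i, hi⟩ hd'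
    have ha : a = 0 := by
      have h1 : (nS D K ⟨i, hi⟩)⁻¹ * xU D (D.simple i) a * nS D K ⟨i, hi⟩ ∈
          D.borelSubgroup K := by
        have := Subgroup.mul_mem _ (Subgroup.inv_mem _ (hin _ hd₀)) hds'
        rwa [hda, show ((nS D K ⟨i, hi⟩)⁻¹ * d₀ * nS D K ⟨i, hi⟩)⁻¹ *
          ((nS D K ⟨i, hi⟩)⁻¹ * (d₀ * xU D (D.simple i) a) * nS D K ⟨i, hi⟩) =
          (nS D K ⟨i, hi⟩)⁻¹ * xU D (D.simple i) a * nS D K ⟨i, hi⟩ by group] at this
      obtain ⟨c, hc0, hc, -⟩ := hact (hF.simpleFin ⟨i, hi⟩)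
      have e := hc a
      rw [inv_inv, hF.sP_simple] at e
      have e' : (nS D K ⟨i, hi⟩)⁻¹ * xU D (D.simple i) a * nS D K ⟨i, hi⟩ =
          xU D (D.neg (D.simple i)) (c * a) := e
      rw [e'] at h1
      have h4 : xU D (D.neg (D.simple i)) (c * a) ∈ D.borelSubgroup K ⊓ D.negUnipotent K := by
        refine ⟨h1, ?_⟩
        rw [hF.negUnipotent_eq]
        refine xU_mem_rootClosure (hF.neg_lt hp) ?_ _
        have := (hF.simple_lt i hi).1
        have := hF.neg_lt_half hp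
        omega
      rw [hF.borel_inf_neg, Subgroup.mem_bot] at h4
      exact (mul_eq_zero.1 (hF.xU_eq_one (hF.neg_lt hp) h4)).resolve_left hc0
    rw [ha, hF.xU_zero hp, mul_one] at hda
    subst hda
    obtain ⟨u₀, hu₀, b, hub⟩ := hF.pos_decomp hC ⟨i, hi⟩ hu'
    have hb := (Subgroup.mem_normalizer_iff.1 (hF.simple_normalizer hC ⟨i, hi⟩ hp (Or.inl rfl)
      (xU_mem_rootClosure (P := (· = D.simple i)) hp rfl b)) (d : GL D.Idx K)).1 hd₀
    refine hin _ ?_
    rw [hub, show u₀ * xU D (D.simple i) b * d * (u₀ * xU D (D.simple i) b)⁻¹ =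
      u₀ * (xU D (D.simple i) b * d * (xU D (D.simple i) b)⁻¹) * u₀⁻¹ by group]
    exact Subgroup.mul_mem _ (Subgroup.mul_mem _ hu₀ hb) (Subgroup.inv_mem _ hu₀)
  · obtain ⟨n, hn, hUV⟩ := hF.exists_opposite (F := K)
    refine ⟨⟨n⁻¹, hF.monomial_le_group (Subgroup.inv_mem _ hn)⟩, Subgroup.inv_mem _ hn,
      fun u hu hB => ?_⟩
    have hv : n * (u : GL D.Idx K) * n⁻¹ ∈ D.negUnipotent K := by
      rw [← hUV]
      exact ⟨u, hu, rfl⟩
    have hb : n * (u : GL D.Idx K) * n⁻¹ ∈ D.borelSubgroup K := by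
      have h1 : (n⁻¹)⁻¹ * (u : GL D.Idx K) * n⁻¹ ∈ D.borelSubgroup K := hB
      rwa [inv_inv] at h1
    have : n * (u : GL D.Idx K) * n⁻¹ ∈ D.borelSubgroup K ⊓ D.negUnipotent K := ⟨hb, hv⟩
    rw [hF.borel_inf_neg, Subgroup.mem_bot, conj_eq_one_iff] at this
    exact Subtype.ext this

theorem parabolicIn_eq {J : Finset ℕ} (hJ : J ⊆ Finset.range D.rank) :
    D.parabolicIn K J = (hF.bnPair hC (K := K)).parabolic (el hF '' (J : Set ℕ)) := by
  have hJ' : ∀ j ∈ J, j < D.rank := fun j hj => Finset.mem_range.1 (hJ hj)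
  have hgen : ({g : GL D.Idx K | ∃ j ∈ (J : Set ℕ), j < D.rank ∧
      (g : Matrix D.Idx D.Idx K) = D.nMat K (D.simple j) 1}) =
      (fun x : ↥(D.group K) => (x : GL D.Idx K)) '' (el hF '' (J : Set ℕ)) := by
    rw [Set.image_image]
    ext g
    constructor
    · rintro ⟨j, hj, hjr, hg⟩
      rw [← hF.nU_val (hF.simple_lt' hjr), Units.val_inj] at hg
      exact ⟨j, hj, (el_val hF hC hjr).trans hg.symm⟩
    · rintro ⟨j, hj, rfl⟩
      refine ⟨j, hj, hJ' j hj, ?_⟩
      show ((((el hF j : ↥(D.group K)) : GL D.Idx K)) : Matrix D.Idx D.Idx K) = _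
      rw [el_val hF hC (hJ' j hj)]
      exact hF.nU_val (hF.simple_lt' (hJ' j hj)) 1
  have hle : D.parabolicSubgroup K (J : Set ℕ) ≤ D.group K := by
    refine sup_le hF.borel_le_group ?_
    rw [hgen, Subgroup.closure_le]
    rintro _ ⟨x, -, rfl⟩
    exact x.2
  apply Subgroup.map_injective (D.group K).subtype_injective
  rw [ChevalleyDatum.parabolicIn, Subgroup.map_subgroupOf_eq_of_le hle, Cfsg.BNPair.parabolic,
    Subgroup.map_sup, MonoidHom.map_closure, ChevalleyDatum.parabolicSubgroup, hgen]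
  congr 1
  exact (Subgroup.map_subgroupOf_eq_of_le hF.borel_le_group).symm

theorem steinberg_eq [Finite K] (g : ↥(D.group K)) :
    D.steinbergCharacter K g =
      (stJ (hF.bnPair hC (K := K)) (gens (hF.bnPair hC (K := K))) g : ℂ) := by
  classical
  have hg : gens (hF.bnPair hC (K := K)) = (Finset.range D.rank).image (el hF) := by
    apply Finset.coe_injective
    rw [coe_gens, S_eq hF hC, Finset.coe_image, Finset.coe_range]
    rfl
  have hinj : Set.InjOn (el (K := K) hF) (Finset.range D.rank : Set ℕ) :=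
    fun a ha b hb e => el_injOn hF hC (Finset.mem_range.1 ha) (Finset.mem_range.1 hb) e
  rw [stJ_eq_sum, hg, Finset.powerset_image, Finset.sum_image]
  · simp only [ChevalleyDatum.steinbergCharacter]
    refine Finset.sum_congr rfl fun J hJ => ?_
    have hJ' := Finset.mem_powerset.1 hJ
    rw [parabolicIn_eq hF hC hJ', Finset.coe_image,
      Finset.card_image_of_injOn (hinj.mono (Finset.coe_subset.2 hJ'))]
  · intro a ha b hb e
    have ha' := Finset.mem_powerset.1 ha
    have hb' := Finset.mem_powerset.1 hb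
    apply Finset.coe_injective
    have e' := congrArg (fun t : Finset ↥(D.group K) => (t : Set ↥(D.group K))) e
    simp only [Finset.coe_image] at e'
    exact (hinj.image_eq_image_iff (Finset.coe_subset.2 ha') (Finset.coe_subset.2 hb')).1 e'

end CfsgLib.BNSteinberg
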